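import Groth.Agent.IntLib.Push
import Groth.Agent.IntLib.Cls
import Groth.Agent.CurveP1Lib.Transport
import Groth.Agent.CurveLib.TensorExact
import Groth.Agent.CurveLib.Euler
import Groth.Agent.DCohLib.ProjClosed
import Groth.Agent.ProjCoh.PSData
import Groth.Agent.DevLib.Closed

/-!
# Restriction of invertible modules to a divisor
-/

set_option autoImplicit false
set_option backward.isDefEq.respectTransparency false
set_option linter.style.haveILetI false
set_option linter.unusedSectionVars false

universe u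

open CategoryTheory CategoryTheory.Limits AlgebraicGeometry
open Groth.Agent.PullbackMod Groth.Agent.DCohLib
open Groth.Agent.IntLib (mk mk_eq_mk mk_congr mk_tensor pullCls pullCls_mk)

noncomputable section

namespace Groth.Agent.HypSq

variable (k : Type u) [Field k] {X Z : Scheme.{u}} [X.Over (Spec (CommRingCat.of k))]
  [IsProper (X ↘ Spec (CommRingCat.of k))] [Z.Over (Spec (CommRingCat.of k))]
  [IsProper (Z ↘ Spec (CommRingCat.of k))]

omit [Z.Over (Spec (CommRingCat.of k))] [IsProper (Z ↘ Spec (CommRingCat.of k))] in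
/-- `O_X / I` is the direct image of the structure sheaf. -/
theorem nonempty_quotMod_iso (i : Z ⟶ X) [IsClosedImmersion i] :
    Nonempty (ClSub.quotMod i.ker ≅ (Scheme.Modules.pushforward i).obj (Coh.structureModule Z)) := by
  haveI : IsIso i.toImage := inferInstanceAs (IsIso i.toImage)
  obtain ⟨e⟩ := CurveP1Lib.nonempty_push_pull i.toImage (Coh.structureModule i.ker.subscheme)
  exact ⟨(Scheme.Modules.pushforward i.ker.subschemeι).mapIso
      (e ≪≫ (Scheme.Modules.pushforward i.toImage).mapIso (AmpleLib.pullO i.toImage)) ≪≫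
    (Scheme.Modules.pushforwardComp i.toImage i.ker.subschemeι).app _ ≪≫
    (Scheme.Modules.pushforwardCongr i.toImage_imageι).app _⟩

omit [Z.Over (Spec (CommRingCat.of k))] [IsProper (Z ↘ Spec (CommRingCat.of k))] in
include k in
/-- The sequence `0 → M → M(D) → M(D)|_D → 0`. -/
theorem exists_restrict_seq {i : Z ⟶ X} [IsClosedImmersion i] {N : X.Modules}
    (hNinv : ClSub.IsInverseOf N (ClSub.idealMod i.ker)) {M P : X.Modules} (hP : PicF.IsInvertible P)
    (h : mk P = mk M * mk N) :
    ∃ S : ShortComplex X.Modules, S.ShortExact ∧ Nonempty (S.X₁ ≅ M) ∧ Nonempty (S.X₂ ≅ P) ∧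
      Nonempty (S.X₃ ≅ (Scheme.Modules.pushforward i).obj ((Scheme.Modules.pullback i).obj P)) := by
  haveI := EulerIneqLib.isNoetherian_proper (X := X) k
  haveI := Groth.Agent.SerreAff.epi_unitToPush i.ker.subschemeι
  haveI : Mono (ClSub.idealModι i.ker) := inferInstanceAs (Mono (kernel.ι _))
  let S : ShortComplex X.Modules :=
    ShortComplex.mk (ClSub.idealModι i.ker) (ClSub.toSubscheme i.ker) (kernel.condition _)
  have hS : S.ShortExact := ShortComplex.ShortExact.mk'
    (ShortComplex.exact_of_f_is_kernel _ (kernelIsKernel _)) (inferInstanceAs (Mono (ClSub.idealModι i.ker)))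
    (inferInstanceAs (Epi (ClSub.toSubscheme i.ker)))
  have hT := CurveLib.shortExact_tensR hS fun x => CurveLib.freeAt_one_of_isInvertible hP x
  refine ⟨S.map (CurveLib.tensR P), hT, ?_, ?_, ?_⟩
  · refine mk_eq_mk.1 ?_
    show mk (CohB1.tensorMod (ClSub.idealMod i.ker) P) = mk M
    obtain ⟨e⟩ := hNinv
    have h1 := mk_congr e
    rw [mk_tensor, IntLib.mk_structureModule] at h1
    rw [mk_tensor, h, ← mul_assoc, mul_comm (mk (ClSub.idealMod i.ker)) (mk M), mul_assoc,
      mul_comm _ (mk N), h1, mul_one]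
  · exact ⟨AmpleLib.unitL P⟩
  · obtain ⟨e⟩ := nonempty_quotMod_iso i
    exact ⟨AmpleLib.tIso e (Iso.refl P) ≪≫ projIso i (Coh.structureModule Z) P ≪≫
      (Scheme.Modules.pushforward i).mapIso (AmpleLib.unitL _)⟩

variable {i : Z ⟶ X} [IsClosedImmersion i]
  (hi : i ≫ (X ↘ Spec (CommRingCat.of k)) = Z ↘ Spec (CommRingCat.of k))
  {N : X.Modules} (hN : PicF.IsInvertible N) (hNinv : ClSub.IsInverseOf N (ClSub.idealMod i.ker))
  {M P : X.Modules} (hM : PicF.IsInvertible M) (hP : PicF.IsInvertible P) (h : mk P = mk M * mk N)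

include hi hNinv hM hP h

/-- The numerical consequences of the restriction sequence. -/
theorem restrict_numerics :
    (Curv2.euler k X P = Curv2.euler k X M + Curv2.euler k Z ((Scheme.Modules.pullback i).obj P)) ∧
    (∀ n : ℕ, Subsingleton (Coh.HH X M n) → Subsingleton (Coh.HH Z ((Scheme.Modules.pullback i).obj P) n) →
      Subsingleton (Coh.HH X P n)) ∧
    (Subsingleton (Coh.HH X M 1) → Module.finrank k (Coh.HH X P 0) =
      Module.finrank k (Coh.HH X M 0) + Module.finrank k (Coh.HH Z ((Scheme.Modules.pullback i).obj P) 0)) ∧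
    (Subsingleton (Coh.HH Z ((Scheme.Modules.pullback i).obj P) 0) →
      Module.finrank k (Coh.HH X P 0) = Module.finrank k (Coh.HH X M 0)) ∧
    (Subsingleton (Coh.HH X M 1) → Subsingleton (Coh.HH X M 2) →
      Module.finrank k (Coh.HH X P 1) = Module.finrank k (Coh.HH Z ((Scheme.Modules.pullback i).obj P) 1)) := by
  haveI := EulerIneqLib.isNoetherian_proper (X := X) k
  haveI : IsLocallyNoetherian Z := LocallyOfFiniteType.isLocallyNoetherian i
  obtain ⟨S, hS, ⟨e₁⟩, ⟨e₂⟩, ⟨e₃⟩⟩ := exists_restrict_seq k hNinv hP h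
  have hr : PicF.IsInvertible ((Scheme.Modules.pullback i).obj P) := AmpleLib.isInvertible_pullback i hP
  have hrc := CurveLib.isCoh_of_isInvertible hr
  haveI := hrc.1
  have h₁ : Coh.IsCoh S.X₁ := ProjCoh.isCoh_of_iso e₁.symm (CurveLib.isCoh_of_isInvertible hM)
  have h₂ : Coh.IsCoh S.X₂ := ProjCoh.isCoh_of_iso e₂.symm (CurveLib.isCoh_of_isInvertible hP)
  have hpush : ∀ n, Module.finrank k (Coh.HH X S.X₃ n) =
      Module.finrank k (Coh.HH Z ((Scheme.Modules.pullback i).obj P) n) := fun n =>
    (CurveLib.hMap_bijective_finrank e₃ n).trans (IntLib.finrank_push k i hi _ n)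
  have h₃ : Coh.IsCoh S.X₃ := ProjCoh.isCoh_of_iso e₃.symm (DevLib.isCoh_pushforward_closed i hrc)
  haveI := fun n => EulerIneqLib.finite_HH (k := k) h₁ n
  haveI := fun n => EulerIneqLib.finite_HH (k := k) h₂ n
  haveI := fun n => EulerIneqLib.finite_HH (k := k) h₃ n
  haveI := fun n => EulerIneqLib.finite_HH (k := k) (CurveLib.isCoh_of_isInvertible hP) n
  haveI := fun n => EulerIneqLib.finite_HH (k := k) hrc n
  have hsub : ∀ {A B : X.Modules} (_ : A ≅ B) (n : ℕ), Subsingleton (Coh.HH X B n) → Subsingleton (Coh.HH X A n) :=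
    fun e n hs => (CurveLib.hMap_bijective_iso (k := k) e n).1.subsingleton
  have hsub₃ : ∀ n, Subsingleton (Coh.HH Z ((Scheme.Modules.pullback i).obj P) n) → Subsingleton (Coh.HH X S.X₃ n) :=
    fun n hs => by
      haveI := hs
      exact Module.finrank_zero_iff.1 ((hpush n).trans Module.finrank_zero_of_subsingleton)
  refine ⟨?_, fun n hn hn' => ?_, fun hn => ?_, fun hn => ?_, fun hn hn' => ?_⟩
  · rw [← CurveLib.euler_iso (K := k) e₁, ← CurveLib.euler_iso (K := k) e₂,
      CurveLib.euler_shortExact hS h₁ h₂ h₃, CurveLib.euler_iso (K := k) e₃, IntLib.euler_push k i hi]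
  · haveI := hsub e₁ n hn
    haveI := hsub₃ n hn'
    haveI := CurveLib.subsingleton_mid hS n
    exact hsub e₂.symm n inferInstance
  · haveI := hsub e₁ 1 hn
    rw [← CurveLib.hMap_bijective_finrank e₁ 0, ← CurveLib.hMap_bijective_finrank e₂ 0, ← hpush 0]
    have h1 := (CurveLib.hMap (k := k) S.g 0).finrank_range_add_finrank_ker
    rw [← CurveLib.range_hMap_f hS 0, LinearMap.finrank_range_of_inj (CurveLib.hMap_f_zero_injective (k := k) hS),
      CurveLib.range_hMap_g hS 0, show LinearMap.ker (CurveLib.hδ (k := k) hS 0) = ⊤ from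
        LinearMap.ker_eq_top.2 (LinearMap.ext fun x => Subsingleton.elim _ _), finrank_top] at h1
    omega
  · haveI := hsub₃ 0 hn
    rw [← CurveLib.hMap_bijective_finrank e₁ 0, ← CurveLib.hMap_bijective_finrank e₂ 0]
    have h1 := (CurveLib.hMap (k := k) S.g 0).finrank_range_add_finrank_ker
    rw [← CurveLib.range_hMap_f hS 0, LinearMap.finrank_range_of_inj (CurveLib.hMap_f_zero_injective (k := k) hS),
      Module.finrank_zero_of_subsingleton, zero_add] at h1
    exact h1.symm
  · haveI := hsub e₁ 1 hn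
    haveI := hsub e₁ 2 hn'
    rw [← CurveLib.hMap_bijective_finrank e₂ 1, ← hpush 1]
    have h1 := (CurveLib.hMap (k := k) S.g 1).finrank_range_add_finrank_ker
    rw [← CurveLib.range_hMap_f hS 1, CurveLib.range_hMap_g hS 1,
      show LinearMap.ker (CurveLib.hδ (k := k) hS 1) = ⊤ from
        LinearMap.ker_eq_top.2 (LinearMap.ext fun x => Subsingleton.elim _ _), finrank_top,
      show LinearMap.range (CurveLib.hMap (k := k) S.f 1) = ⊥ from
        LinearMap.range_eq_bot.2 (LinearMap.ext fun x => by rw [Subsingleton.elim x 0, map_zero]; rfl),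
      finrank_bot, add_zero] at h1
    exact h1.symm

end Groth.Agent.HypSq
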