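import Groth.Agent.CurveFF.G12Powers
import Groth.Agent.CurveFF.GenEtale
import Groth.Agent.CurveFF.CanGen
import Groth.Agent.CurveFF.DoubleG12
import Groth.Agent.CurveLib.GlobalFun
import Groth.Agent.CurveLib.MaxSections
import Groth.Agent.CurveLib.CurveVanish
import Groth.Agent.SingRRLib.Core
import Groth.Agent.IntLib.Cls
import Groth.Agent.REqLib.P1Line

/-!
# Hyperelliptic curves: the powers of the pencil
-/

set_option autoImplicit false
set_option backward.isDefEq.respectTransparency false
set_option linter.style.haveILetI false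
set_option linter.unusedSectionVars false

universe u

open CategoryTheory CategoryTheory.Limits AlgebraicGeometry
open Groth.Agent.IntLib (mk mk_eq_mk mk_tensor mk_tensorPow pullCls pullCls_mk)

noncomputable section

namespace Groth.Agent.HypSq

variable {k : Type u} [Field k] [IsAlgClosed k] {C : Scheme.{u}} [C.Over (Spec (CommRingCat.of k))]
  [IsProper (C ↘ Spec (CommRingCat.of k))] [Smooth (C ↘ Spec (CommRingCat.of k))] [ConnectedSpace ↥C]

/-- The class of the pencil of a double cover. -/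
abbrev pen (κ : C ⟶ CohB1.ProjSpace 1 k) : C.Modules :=
  (Scheme.Modules.pullback κ).obj (Twist.twistProjSpace 1 k 1)

theorem h0_structure : Module.finrank k (Coh.HH C (Coh.structureModule C) 0) = 1 := by
  haveI := CurveLib.isIntegral_of_smooth (X := C) k
  exact CurveLib.finrank_H0_structure

variable (hdim : topologicalKrullDim ↥C = 1) {g : ℕ} (hg : 2 ≤ g) (hgen : Curv2.genus k C = g)

include hdim hgen in
/-- Riemann-Roch. -/
theorem euler_eq (M : C.Modules) : Curv2.euler k C M = Curv2.deg k C M 1 + 1 - (g : ℤ) := by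
  haveI := CurveLib.isIntegral_of_smooth (X := C) k
  rw [SingRRLib.euler_eq_deg k hdim.le h0_structure, hgen]

variable (k) in
include k hdim in
theorem subsingleton_HH (M : C.Modules) {p : ℕ} (hp : 1 < p) : Subsingleton (Coh.HH C M p) := by
  haveI := EulerIneqLib.isNoetherian_proper (X := C) k
  exact CurveLib.subsingleton_HH_of_dim M (d := 1) hdim.le hp

theorem finite_HH {M : C.Modules} (hM : PicF.IsInvertible M) (p : ℕ) : Module.Finite k (Coh.HH C M p) := by
  haveI := EulerIneqLib.isNoetherian_proper (X := C) k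
  exact EulerIneqLib.finite_HH (k := k) (CurveLib.isCoh_of_isInvertible hM) p

theorem finrank_congr {M M' : C.Modules} (h : mk M = mk M') (p : ℕ) :
    Module.finrank k (Coh.HH C M p) = Module.finrank k (Coh.HH C M' p) := by
  obtain ⟨e⟩ := mk_eq_mk.1 h
  exact CurveLib.hMap_bijective_finrank e p

theorem deg_congr {M M' : C.Modules} (h : mk M = mk M') : Curv2.deg k C M 1 = Curv2.deg k C M' 1 := by
  obtain ⟨e⟩ := mk_eq_mk.1 h
  exact CurveLib.deg_iso e 1

variable (κ : C ⟶ CohB1.ProjSpace 1 k) (hκ : κ ≫ CohB1.ProjSpace.toSpec 1 k = (C ↘ Spec (CommRingCat.of k)))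
  [IsFinite κ] [Flat κ] (hκ2 : ∀ y : ↥(CohB1.ProjSpace 1 k), κ.finrank y = 2)

include hdim hg hgen hκ hκ2 in
theorem pen_facts : PicF.IsInvertible (pen κ) ∧ Curv2.deg k C (pen κ) 1 = 2 ∧
    Module.finrank k (Coh.HH C (pen κ) 0) = 2 := by
  haveI := EulerIneqLib.isNoetherian_proper (X := C) k
  haveI := CurveLib.isIntegral_of_smooth (X := C) k
  haveI := VBLib.isRegCurve_of_smooth (X := C) k hdim.le
  haveI : IsIntegral (CohB1.ProjSpace 1 k) := REqLib.isIntegral_projSpace 1 k
  haveI : IsProper (CohB1.ProjSpace 1 k ↘ Spec (CommRingCat.of k)) :=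
    inferInstanceAs (IsProper (CohB1.ProjSpace.toSpec 1 k))
  haveI := EulerIneqLib.isNoetherian_proper (X := CohB1.ProjSpace 1 k) k
  haveI : Surjective κ := κ.one_le_finrank_iff_surjective.1 (fun y => by simp [hκ2 y])
  have hrd : κ.residueDegree (genericPoint C) = 2 :=
    (CurveFF.GenEtale.finrank_eq_residueDegree κ (genericPoint _)).symm.trans (hκ2 _)
  exact CurveFF.g12_of_double_cover hdim h0_structure (by omega) κ hκ hrd

include hdim hg hgen hκ hκ2 in
theorem pen_pow (r : ℕ) : PicF.IsInvertible (CohB1.tensorPow (pen κ) r) ∧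
    Curv2.deg k C (CohB1.tensorPow (pen κ) r) 1 = 2 * r ∧
    (r ≤ g → Module.finrank k (Coh.HH C (CohB1.tensorPow (pen κ) r) 0) = r + 1) := by
  haveI := CurveLib.isIntegral_of_smooth (X := C) k
  haveI := VBLib.isRegCurve_of_smooth (X := C) k hdim.le
  obtain ⟨hL, hd, h2⟩ := pen_facts hdim hg hgen κ hκ hκ2
  refine ⟨AmpleLib.isInvertible_tensorPow hL r, ?_, fun hr => ?_⟩
  · rw [CurveLib.deg_tensorPow (k := k) hdim.le hL r, hd]; ring
  · exact (CurveFF.tensorPow_g12 hdim h0_structure hL hd (by omega) h2.ge (r := r) (by omega)).2.2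

include hdim hg hgen hκ hκ2 in
theorem h1_pen_pow {s : ℕ} (hs : s < g) :
    (Module.finrank k (Coh.HH C (CohB1.tensorPow (pen κ) s) 1) : ℤ) = (g : ℤ) - s := by
  obtain ⟨hL, hd, h0⟩ := pen_pow hdim hg hgen κ hκ hκ2 s
  have h := CurveLib.euler_eq_sub (k := k) (M := CohB1.tensorPow (pen κ) s) hdim.le
  rw [euler_eq hdim hgen, hd, h0 hs.le] at h
  push_cast at h
  omega

include hdim hgen in
theorem subsingleton_H1 {M : C.Modules} (hM : PicF.IsInvertible M)
    (hd : 2 * (g : ℤ) - 2 < Curv2.deg k C M 1) : Subsingleton (Coh.HH C M 1) := by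
  haveI := CurveLib.isIntegral_of_smooth (X := C) k
  exact SingRRLib.subsingleton_H1_of_deg k hdim.le h0_structure hM (by rw [hgen]; exact hd)

variable (k) in
include k hdim in
theorem subsingleton_H0 {M : C.Modules} (hM : PicF.IsInvertible M) (hd : Curv2.deg k C M 1 < 0) :
    Subsingleton (Coh.HH C M 0) := by
  haveI := CurveLib.isIntegral_of_smooth (X := C) k
  haveI := EulerIneqLib.isNoetherian_proper (X := C) k
  haveI := finite_HH (k := k) hM 0
  by_contra h
  haveI := not_subsingleton_iff_nontrivial.1 h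
  have h1 := (CurveLib.h0_le_deg_add_one (k := k) hdim.le h0_structure hM).1
  have h2 : 0 < Module.finrank k (Coh.HH C M 0) := Module.finrank_pos
  omega

include hdim hg hgen hκ hκ2 in
/-- The canonical class is `(g-1)` times the pencil. -/
theorem omega_class : PicF.IsInvertible (CurveFF.om k C) ∧ mk (CurveFF.om k C) = mk (pen κ) ^ (g - 1) := by
  haveI := CurveLib.isIntegral_of_smooth (X := C) k
  haveI := VBLib.isRegCurve_of_smooth (X := C) k hdim.le
  obtain ⟨hL, hd, h0⟩ := pen_pow hdim hg hgen κ hκ hκ2 (g - 1)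
  refine ⟨CurveFF.omega_invertible_of_smooth k hdim h0_structure, ?_⟩
  obtain ⟨e⟩ := CurveFF.nonempty_iso_omega_of_smooth hdim h0_structure hL
    (by rw [hd, hgen]; omega) (by rw [hgen, h0 (by omega)]; omega)
  rw [← mk_tensorPow]
  exact (mk_eq_mk.2 ⟨e⟩).symm

/-- Inverse image of classes along a composite. -/
theorem pullCls_comp {X Y Z : Scheme.{u}} (f : X ⟶ Y) (h : Y ⟶ Z) (M : Z.Modules) :
    pullCls f (mk ((Scheme.Modules.pullback h).obj M)) = mk ((Scheme.Modules.pullback (f ≫ h)).obj M) := by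
  rw [pullCls_mk]
  exact mk_eq_mk.2 ⟨(Scheme.Modules.pullbackComp f h).app M⟩

theorem pullCls_congr {X Y : Scheme.{u}} {f f' : X ⟶ Y} (h : f = f') (M : Y.Modules) :
    mk ((Scheme.Modules.pullback f).obj M) = mk ((Scheme.Modules.pullback f').obj M) := by subst h; rfl

theorem pullCls_id {X : Scheme.{u}} (c : IntLib.MCls X) : pullCls (𝟙 X) c = c := by
  induction c using Quotient.inductionOn with
  | h M => exact mk_eq_mk.2 ⟨(Scheme.Modules.pullbackId X).app M⟩

omit [IsProper (C ↘ Spec (CommRingCat.of k))] [Smooth (C ↘ Spec (CommRingCat.of k))] [ConnectedSpace ↥C] in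
/-- The pencil is invariant under automorphisms of the cover. -/
theorem pull_pen {τ : C ⟶ C} (hτ : τ ≫ κ = κ) : pullCls τ (mk (pen κ)) = mk (pen κ) := by
  rw [pullCls_comp]
  exact pullCls_congr hτ _

end Groth.Agent.HypSq
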