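import Groth.Agent.KunnethHHLib.Main
import Groth.Agent.FlatStratLib.Criterion
import Groth.Agent.CurveLib.Euler
import Groth.Agent.CurveLib.Inv
import Groth.Agent.IntLib.Cls
import Groth.Agent.S4662
import Groth.Agent.DimFormulaLib.Misc
import Groth.Agent.HypSqLib.Curve

/-!
# The square of a curve: dimension and the cohomology of box products
-/

set_option autoImplicit false
set_option backward.isDefEq.respectTransparency false
set_option linter.style.haveILetI false
set_option linter.unusedSectionVars false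

universe u

open CategoryTheory CategoryTheory.Limits AlgebraicGeometry
open Groth.Agent.IntLib (mk mk_eq_mk mk_tensor mk_tensorPow pullCls pullCls_mk)

noncomputable section

open scoped TensorProduct

namespace Groth.Agent.HypSq

/-- Künneth, dimensions. -/
theorem finrank_kunneth {k : Type u} [Field k] (X Y : Scheme.{u}) [X.Over (Spec (CommRingCat.of k))]
    [Y.Over (Spec (CommRingCat.of k))]
    [QuasiCompact (KunnethHHLib.str k X)] [QuasiSeparated (KunnethHHLib.str k X)]
    [QuasiCompact (KunnethHHLib.str k Y)] [QuasiSeparated (KunnethHHLib.str k Y)]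
    (F : X.Modules) [Coh.IsQCoh F] (G : Y.Modules) [Coh.IsQCoh G]
    (hF : ∀ p, Module.Finite k (Coh.HH X F p)) (hG : ∀ p, Module.Finite k (Coh.HH Y G p)) (n : ℕ) :
    letI := KunnethHHLib.prodOver (A := k) X Y
    Module.finrank k (Coh.HH (pullback (KunnethHHLib.str k X) (KunnethHHLib.str k Y))
      (CohB1.tensorMod ((Scheme.Modules.pullback (pullback.fst (KunnethHHLib.str k X) (KunnethHHLib.str k Y))).obj F)
        ((Scheme.Modules.pullback (pullback.snd (KunnethHHLib.str k X) (KunnethHHLib.str k Y))).obj G)) n) =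
      ∑ p : Fin (n + 1), Module.finrank k (Coh.HH X F (p : ℕ)) * Module.finrank k (Coh.HH Y G (n - (p : ℕ))) := by
  letI := KunnethHHLib.prodOver (A := k) X Y
  obtain ⟨e⟩ := KunnethHHLib.nonempty_kunneth (A := k) X Y F G (FlatStrat.isFlatOver_specField _ _)
    (fun p => Module.Flat.of_free) n
  haveI : ∀ p : Fin (n + 1), Module.Finite k (Coh.HH X F (p : ℕ) ⊗[k] Coh.HH Y G (n - (p : ℕ))) := fun p =>
    haveI := hF p
    haveI := hG (n - (p : ℕ))
    inferInstance
  have h1 : Module.finrank k (Π p : Fin (n + 1), Coh.HH X F (p : ℕ) ⊗[k] Coh.HH Y G (n - (p : ℕ))) =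
      ∑ p : Fin (n + 1), Module.finrank k (Coh.HH X F (p : ℕ) ⊗[k] Coh.HH Y G (n - (p : ℕ))) :=
    Module.finrank_pi_fintype k
  exact e.finrank_eq.symm.trans (h1.trans (Finset.sum_congr rfl fun p _ => Module.finrank_tensorProduct))



variable (k : Type u) [Field k] [IsAlgClosed k] (C : Scheme.{u}) [C.Over (Spec (CommRingCat.of k))]
  [IsProper (C ↘ Spec (CommRingCat.of k))] [Smooth (C ↘ Spec (CommRingCat.of k))] [ConnectedSpace ↥C]

/-- The square of the curve. -/
abbrev Sq : Scheme.{u} := pullback (C ↘ Spec (CommRingCat.of k)) (C ↘ Spec (CommRingCat.of k))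

/-- The first projection. -/
abbrev p₁ : Sq k C ⟶ C := pullback.fst (C ↘ Spec (CommRingCat.of k)) (C ↘ Spec (CommRingCat.of k))

/-- The second projection. -/
abbrev p₂ : Sq k C ⟶ C := pullback.snd (C ↘ Spec (CommRingCat.of k)) (C ↘ Spec (CommRingCat.of k))

/-- The structure map of the square. -/
scoped instance overSq : (Sq k C).Over (Spec (CommRingCat.of k)) :=
  ⟨p₁ k C ≫ (C ↘ Spec (CommRingCat.of k))⟩

scoped instance isProper_overSq : IsProper (Sq k C ↘ Spec (CommRingCat.of k)) :=
  inferInstanceAs (IsProper (p₁ k C ≫ (C ↘ Spec (CommRingCat.of k))))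

variable {k C}

/-- The external product. -/
abbrev box (A B : C.Modules) : (Sq k C).Modules :=
  CohB1.tensorMod ((Scheme.Modules.pullback (p₁ k C)).obj A) ((Scheme.Modules.pullback (p₂ k C)).obj B)

theorem isInvertible_box {A B : C.Modules} (hA : PicF.IsInvertible A) (hB : PicF.IsInvertible B) :
    PicF.IsInvertible (box (k := k) A B) :=
  AmpleLib.isInvertible_tensor (AmpleLib.isInvertible_pullback _ hA) (AmpleLib.isInvertible_pullback _ hB)

theorem mk_box (A B : C.Modules) :
    mk (box (k := k) A B) = pullCls (p₁ k C) (mk A) * pullCls (p₂ k C) (mk B) := rfl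

theorem dim_sq_le (hdim : topologicalKrullDim ↥C = 1) :
    topologicalKrullDim ↥(Sq k C) ≤ ((2 : ℕ) : WithBot ℕ∞) := by
  haveI := CurveLib.isIntegral_of_smooth (X := C) k
  haveI := EulerIneqLib.isNoetherian_proper (X := Sq k C) k
  refine DimFormulaLib.topologicalKrullDim_le_of_components _ fun η hη => le_of_eq ?_
  have hZ : closure ({η} : Set ↥(Sq k C)) ∈ irreducibleComponents ↥(Sq k C) := by
    refine ⟨isIrreducible_singleton.closure, fun T hT hle => ?_⟩
    obtain ⟨w, hw⟩ := QuasiSober.sober hT.closure isClosed_closure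
    have hwη : w ⤳ η := specializes_iff_mem_closure.2
      ((IsGenericPoint.def hw).ge (subset_closure (hle (subset_closure rfl))))
    exact subset_closure.trans ((IsGenericPoint.def hw).ge.trans (by rw [hη w hwη]))
  rw [Groth.Agent.S4662.result (C ↘ Spec (CommRingCat.of k)) (C ↘ Spec (CommRingCat.of k)) _ hZ, hdim]
  rfl

theorem finite_HH_sq {M : (Sq k C).Modules} (hM : PicF.IsInvertible M) (p : ℕ) :
    Module.Finite k (Coh.HH (Sq k C) M p) := by
  haveI := EulerIneqLib.isNoetherian_proper (X := Sq k C) k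
  exact EulerIneqLib.finite_HH (k := k) (CurveLib.isCoh_of_isInvertible hM) p

theorem subsingleton_HH_sq (hdim : topologicalKrullDim ↥C = 1) (M : (Sq k C).Modules) {p : ℕ} (hp : 2 < p) :
    Subsingleton (Coh.HH (Sq k C) M p) := by
  haveI := EulerIneqLib.isNoetherian_proper (X := Sq k C) k
  exact CurveLib.subsingleton_HH_of_dim M (d := 2) (dim_sq_le hdim) hp

/-- The Künneth formula for invertible modules. -/
theorem finrank_box {A B : C.Modules} (hA : PicF.IsInvertible A) (hB : PicF.IsInvertible B) (n : ℕ) :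
    Module.finrank k (Coh.HH (Sq k C) (box (k := k) A B) n) =
      ∑ p : Fin (n + 1), Module.finrank k (Coh.HH C A (p : ℕ)) * Module.finrank k (Coh.HH C B (n - (p : ℕ))) := by
  haveI := EulerIneqLib.isNoetherian_proper (X := C) k
  haveI := (CurveLib.isCoh_of_isInvertible hA).1
  haveI := (CurveLib.isCoh_of_isInvertible hB).1
  exact finrank_kunneth C C A B (finite_HH (k := k) hA) (finite_HH (k := k) hB) n

theorem euler_sq (hdim : topologicalKrullDim ↥C = 1) (M : (Sq k C).Modules) :
    Curv2.euler k (Sq k C) M = (Module.finrank k (Coh.HH (Sq k C) M 0) : ℤ) -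
      Module.finrank k (Coh.HH (Sq k C) M 1) + Module.finrank k (Coh.HH (Sq k C) M 2) := by
  rw [CurveLib.euler_eq_sum (K := k) M 3 fun p hp => subsingleton_HH_sq hdim M hp]
  simp [Finset.sum_range_succ]
  ring

/-- Dimensions of the cohomology of an external product. -/
theorem box_dims (hdim : topologicalKrullDim ↥C = 1) {A B : C.Modules} (hA : PicF.IsInvertible A)
    (hB : PicF.IsInvertible B) :
    Module.finrank k (Coh.HH (Sq k C) (box (k := k) A B) 0) =
        Module.finrank k (Coh.HH C A 0) * Module.finrank k (Coh.HH C B 0) ∧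
    Module.finrank k (Coh.HH (Sq k C) (box (k := k) A B) 1) =
        Module.finrank k (Coh.HH C A 0) * Module.finrank k (Coh.HH C B 1) +
          Module.finrank k (Coh.HH C A 1) * Module.finrank k (Coh.HH C B 0) ∧
    Module.finrank k (Coh.HH (Sq k C) (box (k := k) A B) 2) =
        Module.finrank k (Coh.HH C A 1) * Module.finrank k (Coh.HH C B 1) := by
  haveI := fun (M : C.Modules) => subsingleton_HH k hdim M (p := 2) (by norm_num)
  have hsum : ∀ n, Module.finrank k (Coh.HH (Sq k C) (box (k := k) A B) n) = ∑ p ∈ Finset.range (n + 1),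
      Module.finrank k (Coh.HH C A p) * Module.finrank k (Coh.HH C B (n - p)) := fun n =>
    (finrank_box hA hB n).trans
      (Fin.sum_univ_eq_sum_range (fun p => Module.finrank k (Coh.HH C A p) * Module.finrank k (Coh.HH C B (n - p))) (n + 1))
  have hA2 : Module.finrank k (Coh.HH C A 2) = 0 := Module.finrank_zero_of_subsingleton
  have hB2 : Module.finrank k (Coh.HH C B 2) = 0 := Module.finrank_zero_of_subsingleton
  set f : ℕ → ℕ := fun p => Module.finrank k (Coh.HH C A p) with hf
  set h : ℕ → ℕ := fun p => Module.finrank k (Coh.HH C B p) with hh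
  have key : ∀ (f h : ℕ → ℕ) (F : ℕ → ℕ), (∀ n, F n = ∑ p ∈ Finset.range (n + 1), f p * h (n - p)) →
      f 2 = 0 → h 2 = 0 → F 0 = f 0 * h 0 ∧ F 1 = f 0 * h 1 + f 1 * h 0 ∧ F 2 = f 1 * h 1 := fun f h F hF e e' => by
    refine ⟨?_, ?_, ?_⟩ <;> simp [hF, Finset.sum_range_succ, e, e']
  exact key f h (fun n => Module.finrank k (Coh.HH (Sq k C) (box (k := k) A B) n)) hsum hA2 hB2

theorem euler_box (hdim : topologicalKrullDim ↥C = 1) {A B : C.Modules} (hA : PicF.IsInvertible A)
    (hB : PicF.IsInvertible B) :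
    Curv2.euler k (Sq k C) (box (k := k) A B) = Curv2.euler k C A * Curv2.euler k C B := by
  obtain ⟨h0, h1, h2⟩ := box_dims (k := k) hdim hA hB
  rw [euler_sq hdim, h0, h1, h2, CurveLib.euler_eq_sub (k := k) hdim.le, CurveLib.euler_eq_sub (k := k) hdim.le]
  push_cast
  ring

end Groth.Agent.HypSq
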