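import Groth.Agent.HypSqLib.Graph
import Groth.Agent.IntLib.Pairing

/-!
# Line bundles `F_m ⊗ N^r` on the square of a hyperelliptic curve
-/

set_option autoImplicit false
set_option backward.isDefEq.respectTransparency false
set_option linter.style.haveILetI false
set_option linter.unusedSectionVars false

universe u

open CategoryTheory CategoryTheory.Limits AlgebraicGeometry
open Groth.Agent.IntLib (mk mk_eq_mk mk_congr mk_tensor mk_tensorPow pullCls pullCls_mk)

noncomputable section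

namespace Groth.Agent.HypSq

variable {k : Type u} [Field k] [IsAlgClosed k] {C : Scheme.{u}} [C.Over (Spec (CommRingCat.of k))]
  [IsProper (C ↘ Spec (CommRingCat.of k))] [Smooth (C ↘ Spec (CommRingCat.of k))] [ConnectedSpace ↥C]
  (hdim : topologicalKrullDim ↥C = 1) {g : ℕ} (hg : 2 ≤ g) (hgen : Curv2.genus k C = g)
  (κ : C ⟶ CohB1.ProjSpace 1 k) (hκ : κ ≫ CohB1.ProjSpace.toSpec 1 k = (C ↘ Spec (CommRingCat.of k)))
  [IsFinite κ] [Flat κ] (hκ2 : ∀ y : ↥(CohB1.ProjSpace 1 k), κ.finrank y = 2)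
  {τ : C ⟶ C} (hτ : τ ≫ κ = κ)
  (hτp : τ ≫ (C ↘ Spec (CommRingCat.of k)) = (C ↘ Spec (CommRingCat.of k)))
  {N : (Sq k C).Modules} (hN : PicF.IsInvertible N)
  (hNinv : ClSub.IsInverseOf N (ClSub.idealMod (gr hτp).ker))

include hdim hg hgen hκ hκ2 hτ hN hNinv

/-- The restriction of `N` to the graph is the inverse of the canonical class. -/
theorem gr_N : PicF.IsInvertible ((Scheme.Modules.pullback (gr hτp)).obj N) ∧
    mk ((Scheme.Modules.pullback (gr hτp)).obj N) * mk (pen κ) ^ (g - 1) = 1 ∧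
    Curv2.deg k C ((Scheme.Modules.pullback (gr hτp)).obj N) 1 = -2 * ((g : ℤ) - 1) := by
  obtain ⟨-, ho⟩ := omega_class hdim hg hgen κ hκ hκ2
  obtain ⟨hL, hd, -⟩ := pen_pow hdim hg hgen κ hκ hκ2 (g - 1)
  have hn : PicF.IsInvertible ((Scheme.Modules.pullback (gr hτp)).obj N) := AmpleLib.isInvertible_pullback _ hN
  have h := pullCls_gr_inverse hτp hNinv
  rw [ho, map_pow, pull_pen κ hτ, pullCls_mk] at h
  refine ⟨hn, h, ?_⟩
  have h2 := deg_mul (k := k) hdim hn hL (P := Coh.structureModule C) (by rw [mk_tensorPow, h]; rfl)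
  haveI := CurveLib.isIntegral_of_smooth (X := C) k
  haveI := EulerIneqLib.isNoetherian_proper (X := C) k
  rw [CurveLib.deg_structureModule, hd] at h2
  push_cast [Nat.cast_sub (show 1 ≤ g by omega)] at h2 ⊢
  omega

section Box

variable {A B : C.Modules} (hA : PicF.IsInvertible A) (hB : PicF.IsInvertible B) {a b : ℤ}
  (ha : Curv2.deg k C A 1 = a) (hb : Curv2.deg k C ((Scheme.Modules.pullback τ).obj B) 1 = b)
include hA hB ha hb

/-- The degree of the restriction to the graph. -/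
theorem deg_res (r : ℕ) :
    Curv2.deg k C ((Scheme.Modules.pullback (gr hτp)).obj
      (CohB1.tensorMod (box (k := k) A B) (CohB1.tensorPow N r))) 1 = a + b - 2 * ((g : ℤ) - 1) * r := by
  obtain ⟨hn, -, hdn⟩ := gr_N hdim hg hgen κ hκ hκ2 hτ hτp hN hNinv
  induction r with
  | zero =>
    rw [deg_mul hdim hA (AmpleLib.isInvertible_pullback τ hB) (P := _) ?_, ha, hb]
    · simp
    · rw [← pullCls_mk, mk_tensor, mk_tensorPow, pow_zero, mul_one, pullCls_gr_box, pullCls_mk]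
  | succ r ih =>
    rw [deg_mul hdim (A := (Scheme.Modules.pullback (gr hτp)).obj
        (CohB1.tensorMod (box (k := k) A B) (CohB1.tensorPow N r))) ?_ hn ?_, ih, hdn]
    · push_cast; ring
    · exact AmpleLib.isInvertible_pullback _
        (AmpleLib.isInvertible_tensor (isInvertible_box hA hB) (AmpleLib.isInvertible_tensorPow hN r))
    · simp only [← pullCls_mk, ← map_mul, mk_tensor, mk_tensorPow, pow_succ, mul_assoc]

theorem euler_box_pow (hb' : Curv2.deg k C B 1 = b) (r : ℕ) :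
    Curv2.euler k (Sq k C) (CohB1.tensorMod (box (k := k) A B) (CohB1.tensorPow N r)) =
      (a - ((g : ℤ) - 1)) * (b - ((g : ℤ) - 1)) + r * (a + b) - ((g : ℤ) - 1) * r * (r + 2) := by
  induction r with
  | zero =>
    refine (CurveLib.euler_iso (K := k) (AmpleLib.unitR (box (k := k) A B))).trans ?_
    rw [euler_box hdim hA hB, euler_eq hdim hgen, euler_eq hdim hgen, ha, hb']
    push_cast; ring
  | succ r ih =>
    haveI := isClosedImmersion_gr hτp
    have hM := AmpleLib.isInvertible_tensor (isInvertible_box (k := k) hA hB) (AmpleLib.isInvertible_tensorPow hN r)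
    have hP := AmpleLib.isInvertible_tensor (isInvertible_box (k := k) hA hB)
      (AmpleLib.isInvertible_tensorPow hN (r + 1))
    obtain ⟨he, -⟩ := restrict_numerics k (gr_over hτp) hNinv hM hP
      (by simp only [mk_tensor, mk_tensorPow, pow_succ, mul_assoc])
    rw [he, ih, euler_eq hdim hgen, deg_res hdim hg hgen κ hκ hκ2 hτ hτp hN hNinv hA hB ha hb]
    push_cast; ring

end Box

/-- The bundle `F_m ⊗ N^r`. -/
abbrev fn (N : (Sq k C).Modules) (m r : ℕ) : (Sq k C).Modules :=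
  CohB1.tensorMod (box (k := k) (CohB1.tensorPow (pen κ) m) (CohB1.tensorPow (pen κ) m)) (CohB1.tensorPow N r)

theorem isInvertible_fn (m r : ℕ) : PicF.IsInvertible (fn κ N m r) := by
  obtain ⟨hL, -, -⟩ := pen_pow hdim hg hgen κ hκ hκ2 m
  exact AmpleLib.isInvertible_tensor (isInvertible_box hL hL) (AmpleLib.isInvertible_tensorPow hN r)

theorem deg_res_fn (m r : ℕ) :
    Curv2.deg k C ((Scheme.Modules.pullback (gr hτp)).obj (fn κ N m r)) 1 =
      2 * (2 * (m : ℤ) - ((g : ℤ) - 1) * r) := by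
  obtain ⟨hL, hd, -⟩ := pen_pow hdim hg hgen κ hκ hκ2 m
  rw [deg_res hdim hg hgen κ hκ hκ2 hτ hτp hN hNinv hL hL hd (b := 2 * (m : ℤ)) ?_]
  · ring
  · refine (deg_congr ?_).trans hd
    rw [← pullCls_mk, mk_tensorPow, map_pow, pull_pen κ hτ]

theorem euler_fn (m r : ℕ) :
    Curv2.euler k (Sq k C) (fn κ N m r) =
      (2 * (m : ℤ) - ((g : ℤ) - 1)) ^ 2 + 4 * (m : ℤ) * r - ((g : ℤ) - 1) * r * (r + 2) := by
  obtain ⟨hL, hd, -⟩ := pen_pow hdim hg hgen κ hκ hκ2 m
  rw [euler_box_pow hdim hg hgen κ hκ hκ2 hτ hτp hN hNinv hL hL hd (b := 2 * (m : ℤ)) ?_ hd]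
  · ring
  · refine (deg_congr ?_).trans hd
    rw [← pullCls_mk, mk_tensorPow, map_pow, pull_pen κ hτ]

/-- The restriction of `F_m ⊗ N^r` to the graph. -/
theorem res_class (m r s : ℕ) (hs : s + (g - 1) * r = 2 * m) :
    mk ((Scheme.Modules.pullback (gr hτp)).obj (fn κ N m r)) = mk (CohB1.tensorPow (pen κ) s) := by
  obtain ⟨-, hn, -⟩ := gr_N hdim hg hgen κ hκ hκ2 hτ hτp hN hNinv
  rw [← pullCls_mk, mk_tensor, map_mul, pullCls_gr_box, mk_tensorPow, mk_tensorPow, mk_tensorPow, map_pow,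
    map_pow, pull_pen κ hτ, ← pow_add, show m + m = s + (g - 1) * r by omega, pow_add, pow_mul, mul_assoc,
    ← mul_pow, mul_comm _ (pullCls _ _), pullCls_mk, hn, one_pow, mul_one]

theorem numerics_fn (m r : ℕ) :
    (Curv2.euler k (Sq k C) (fn κ N m (r + 1)) = Curv2.euler k (Sq k C) (fn κ N m r) +
      Curv2.euler k C ((Scheme.Modules.pullback (gr hτp)).obj (fn κ N m (r + 1)))) ∧
    (∀ n : ℕ, Subsingleton (Coh.HH (Sq k C) (fn κ N m r) n) →
      Subsingleton (Coh.HH C ((Scheme.Modules.pullback (gr hτp)).obj (fn κ N m (r + 1))) n) →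
      Subsingleton (Coh.HH (Sq k C) (fn κ N m (r + 1)) n)) ∧
    (Subsingleton (Coh.HH (Sq k C) (fn κ N m r) 1) → Module.finrank k (Coh.HH (Sq k C) (fn κ N m (r + 1)) 0) =
      Module.finrank k (Coh.HH (Sq k C) (fn κ N m r) 0) +
        Module.finrank k (Coh.HH C ((Scheme.Modules.pullback (gr hτp)).obj (fn κ N m (r + 1))) 0)) ∧
    (Subsingleton (Coh.HH C ((Scheme.Modules.pullback (gr hτp)).obj (fn κ N m (r + 1))) 0) →
      Module.finrank k (Coh.HH (Sq k C) (fn κ N m (r + 1)) 0) = Module.finrank k (Coh.HH (Sq k C) (fn κ N m r) 0)) ∧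
    (Subsingleton (Coh.HH (Sq k C) (fn κ N m r) 1) → Subsingleton (Coh.HH (Sq k C) (fn κ N m r) 2) →
      Module.finrank k (Coh.HH (Sq k C) (fn κ N m (r + 1)) 1) =
        Module.finrank k (Coh.HH C ((Scheme.Modules.pullback (gr hτp)).obj (fn κ N m (r + 1))) 1)) := by
  haveI := isClosedImmersion_gr hτp
  exact restrict_numerics k (gr_over hτp) hNinv (isInvertible_fn hdim hg hgen κ hκ hκ2 hτ hτp hN hNinv m r)
    (isInvertible_fn hdim hg hgen κ hκ hκ2 hτ hτp hN hNinv m (r + 1))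
    (by simp only [mk_tensor, mk_tensorPow, pow_succ, mul_assoc])

theorem vanish_zero {m : ℕ} (hm : g ≤ m) :
    Subsingleton (Coh.HH (Sq k C) (fn κ N m 0) 1) ∧ Subsingleton (Coh.HH (Sq k C) (fn κ N m 0) 2) := by
  obtain ⟨hL, hd, -⟩ := pen_pow hdim hg hgen κ hκ hκ2 m
  haveI := subsingleton_H1 hdim hgen hL (by rw [hd]; omega)
  haveI := fun p => finite_HH_sq (k := k) (isInvertible_box (k := k) hL hL) p
  obtain ⟨-, h1, h2⟩ := box_dims (k := k) hdim hL hL
  rw [Module.finrank_zero_of_subsingleton (R := k) (M := Coh.HH C (CohB1.tensorPow (pen κ) m) 1)] at h1 h2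
  simp only [mul_zero, zero_mul, add_zero] at h1 h2
  exact ⟨@Function.Injective.subsingleton _ _ _ (CurveLib.hMap_bijective_iso (k := k) (AmpleLib.unitR _) 1).1
      (Module.finrank_zero_iff.1 h1),
    @Function.Injective.subsingleton _ _ _ (CurveLib.hMap_bijective_iso (k := k) (AmpleLib.unitR _) 2).1
      (Module.finrank_zero_iff.1 h2)⟩

theorem vanish_two {m : ℕ} (hm : g ≤ m) (r : ℕ) : Subsingleton (Coh.HH (Sq k C) (fn κ N m r) 2) := by
  induction r with
  | zero => exact (vanish_zero hdim hg hgen κ hκ hκ2 hτ hτp hN hNinv hm).2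
  | succ r ih =>
    exact (numerics_fn hdim hg hgen κ hκ hκ2 hτ hτp hN hNinv m r).2.1 2 ih (subsingleton_HH k hdim _ one_lt_two)

theorem vanish_one {m : ℕ} (hm : g ≤ m) : ∀ r : ℕ, ((g : ℤ) - 1) * (r + 1) < 2 * m →
    Subsingleton (Coh.HH (Sq k C) (fn κ N m r) 1)
  | 0, _ => (vanish_zero hdim hg hgen κ hκ hκ2 hτ hτp hN hNinv hm).1
  | r + 1, h => by
    push_cast at h
    have hg1 : (0 : ℤ) ≤ (g : ℤ) - 1 := by omega
    refine (numerics_fn hdim hg hgen κ hκ hκ2 hτ hτp hN hNinv m r).2.1 1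
      (vanish_one hm r (by nlinarith)) (subsingleton_H1 hdim hgen
        (AmpleLib.isInvertible_pullback _ (isInvertible_fn hdim hg hgen κ hκ hκ2 hτ hτp hN hNinv m (r + 1))) ?_)
    rw [deg_res_fn hdim hg hgen κ hκ hκ2 hτ hτp hN hNinv]
    push_cast
    nlinarith

theorem h0_fn {m : ℕ} (hm : g ≤ m) (r : ℕ) (hmr : ((g : ℤ) - 1) * (r + 1) < 2 * m) :
    (Module.finrank k (Coh.HH (Sq k C) (fn κ N m r) 0) : ℤ) =
      (2 * (m : ℤ) - ((g : ℤ) - 1)) ^ 2 + 4 * (m : ℤ) * r - ((g : ℤ) - 1) * r * (r + 2) := by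
  haveI := vanish_one hdim hg hgen κ hκ hκ2 hτ hτp hN hNinv hm r hmr
  haveI := vanish_two hdim hg hgen κ hκ hκ2 hτ hτp hN hNinv hm r
  rw [← euler_fn hdim hg hgen κ hκ hκ2 hτ hτp hN hNinv m r, euler_sq hdim,
    Module.finrank_zero_of_subsingleton (R := k) (M := Coh.HH (Sq k C) (fn κ N m r) 1),
    Module.finrank_zero_of_subsingleton (R := k) (M := Coh.HH (Sq k C) (fn κ N m r) 2)]
  simp

theorem h0_step_neg (m r : ℕ) (hneg : 2 * (m : ℤ) < ((g : ℤ) - 1) * (r + 1)) :
    Module.finrank k (Coh.HH (Sq k C) (fn κ N m (r + 1)) 0) =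
      Module.finrank k (Coh.HH (Sq k C) (fn κ N m r) 0) := by
  refine (numerics_fn hdim hg hgen κ hκ hκ2 hτ hτp hN hNinv m r).2.2.2.1 (subsingleton_H0 k hdim
    (AmpleLib.isInvertible_pullback _ (isInvertible_fn hdim hg hgen κ hκ hκ2 hτ hτp hN hNinv m (r + 1))) ?_)
  rw [deg_res_fn hdim hg hgen κ hκ hκ2 hτ hτp hN hNinv]
  push_cast
  linarith

theorem h0_step {m : ℕ} (hm : g ≤ m) (r s : ℕ) (hs0 : 0 < s) (hs : s + (g - 1) * (r + 1) = 2 * m) :
    Module.finrank k (Coh.HH (Sq k C) (fn κ N m (r + 1)) 0) =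
      Module.finrank k (Coh.HH (Sq k C) (fn κ N m r) 0) +
        Module.finrank k (Coh.HH C (CohB1.tensorPow (pen κ) s) 0) := by
  have h1 := vanish_one hdim hg hgen κ hκ hκ2 hτ hτp hN hNinv hm r (by
    have : ((g - 1) * (r + 1) : ℕ) < 2 * m := by omega
    zify [show 1 ≤ g by omega] at this
    exact this)
  rw [(numerics_fn hdim hg hgen κ hκ hκ2 hτ hτp hN hNinv m r).2.2.1 h1,
    finrank_congr (res_class hdim hg hgen κ hκ hκ2 hτ hτp hN hNinv m (r + 1) s hs) 0]

theorem h0_fn_const (m q : ℕ) (hq : ∀ j : ℕ, q ≤ j → 2 * (m : ℤ) < ((g : ℤ) - 1) * (j + 1)) {r : ℕ} (hr : q ≤ r) :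
    Module.finrank k (Coh.HH (Sq k C) (fn κ N m r) 0) = Module.finrank k (Coh.HH (Sq k C) (fn κ N m q) 0) := by
  induction r, hr using Nat.le_induction with
  | base => rfl
  | succ j hj ih => exact (h0_step_neg hdim hg hgen κ hκ hκ2 hτ hτp hN hNinv m j (hq j hj)).trans ih

theorem h1_step {m : ℕ} (hm : g ≤ m) (r s : ℕ) (hs0 : 0 < s) (hs : s + (g - 1) * (r + 1) = 2 * m) :
    Module.finrank k (Coh.HH (Sq k C) (fn κ N m (r + 1)) 1) =
      Module.finrank k (Coh.HH C (CohB1.tensorPow (pen κ) s) 1) := by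
  have h1 := vanish_one hdim hg hgen κ hκ hκ2 hτ hτp hN hNinv hm r (by
    have : ((g - 1) * (r + 1) : ℕ) < 2 * m := by omega
    zify [show 1 ≤ g by omega] at this
    exact this)
  rw [(numerics_fn hdim hg hgen κ hκ hκ2 hτ hτp hN hNinv m r).2.2.2.2 h1
      (vanish_two hdim hg hgen κ hκ hκ2 hτ hτp hN hNinv hm r),
    finrank_congr (res_class hdim hg hgen κ hκ hκ2 hτ hτp hN hNinv m (r + 1) s hs) 1]

end Groth.Agent.HypSq

namespace Groth.Agent.HypSq

variable {k : Type u} [Field k] [IsAlgClosed k] {C : Scheme.{u}} [C.Over (Spec (CommRingCat.of k))]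
  [IsProper (C ↘ Spec (CommRingCat.of k))] [Smooth (C ↘ Spec (CommRingCat.of k))] [ConnectedSpace ↥C]

/-- The intersection number of two modules on the square. -/
theorem intNum_two (hdim : topologicalKrullDim ↥C = 1) {L M : (Sq k C).Modules} (hL : PicF.IsInvertible L)
    (hM : PicF.IsInvertible M) :
    FGA.intNum k (Sq k C) 2 ![L, M] (Coh.structureModule (Sq k C)) =
      Curv2.euler k (Sq k C) (Coh.structureModule (Sq k C)) - Curv2.euler k (Sq k C) L -
        Curv2.euler k (Sq k C) M + Curv2.euler k (Sq k C) (CohB1.tensorMod L M) := by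
  rw [IntLib.intNum_eq k (dim_sq_le hdim) _ ![L, M] (fun i => by fin_cases i <;> assumption),
    Fin.prod_univ_two]
  simp only [IntLib.dif, sub_mul, mul_sub, one_mul, mul_one, map_sub, ← map_mul]
  rw [← map_one (MonoidAlgebra.of ℤ (IntLib.Inv (Sq k C)))]
  simp only [IntLib.pairing_of, Submonoid.coe_one, Submonoid.coe_mul, mul_one,
    show mk (Coh.structureModule (Sq k C)) = 1 from rfl, one_mul]
  show IntLib.chiC k (1 : IntLib.MCls (Sq k C)) - IntLib.chiC k (mk L) -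
    (IntLib.chiC k (mk M) - IntLib.chiC k (mk L * mk M)) = _
  rw [← mk_tensor, ← IntLib.mk_structureModule, IntLib.chiC_mk, IntLib.chiC_mk, IntLib.chiC_mk, IntLib.chiC_mk]
  ring

theorem euler_congr {M M' : (Sq k C).Modules} (h : mk M = mk M') :
    Curv2.euler k (Sq k C) M = Curv2.euler k (Sq k C) M' := by
  obtain ⟨e⟩ := mk_eq_mk.1 h
  exact CurveLib.euler_iso (K := k) e

theorem vanish_box_pen (hdim : topologicalKrullDim ↥C = 1) {g : ℕ} (hg : 2 ≤ g) (hgen : Curv2.genus k C = g)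
    (κ : C ⟶ CohB1.ProjSpace 1 k) (hκ : κ ≫ CohB1.ProjSpace.toSpec 1 k = (C ↘ Spec (CommRingCat.of k)))
    [IsFinite κ] [Flat κ] (hκ2 : ∀ y : ↥(CohB1.ProjSpace 1 k), κ.finrank y = 2) {m : ℕ} (hm : g ≤ m) :
    Subsingleton (Coh.HH (Sq k C) (box (k := k) (CohB1.tensorPow (pen κ) m) (CohB1.tensorPow (pen κ) m)) 1) ∧
      Subsingleton (Coh.HH (Sq k C) (box (k := k) (CohB1.tensorPow (pen κ) m) (CohB1.tensorPow (pen κ) m)) 2) := by
  obtain ⟨hL, hd, -⟩ := pen_pow hdim hg hgen κ hκ hκ2 m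
  haveI := subsingleton_H1 hdim hgen hL (by rw [hd]; omega)
  haveI := fun p => finite_HH_sq (k := k) (isInvertible_box (k := k) hL hL) p
  obtain ⟨-, h1, h2⟩ := box_dims (k := k) hdim hL hL
  rw [Module.finrank_zero_of_subsingleton (R := k) (M := Coh.HH C (CohB1.tensorPow (pen κ) m) 1)] at h1 h2
  simp only [mul_zero, zero_mul, add_zero] at h1 h2
  exact ⟨Module.finrank_zero_iff.1 h1, Module.finrank_zero_iff.1 h2⟩

/-- Rewrite the three terms of a sum one by one. -/
theorem add_congr_terms {a b c a' b' c' : ℕ} (h : a' = b' + c') (ha : a' = a) (hb : b' = b) (hc : c' = c) :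
    a = b + c := by
  omega

end Groth.Agent.HypSq
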