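import Groth.Agent.HypSqLib.Quadric
import Groth.Agent.HypSqLib.Main
import Groth.Agent.IntLib.Positive
import Groth.Agent.IntLib.Kill
import Groth.Agent.AmpleEmb.ExtTensor
import Groth.Agent.AmpleEmb.Inverse
import Groth.Agent.SteinConn.Smooth
import Groth.Agent.CurveRigid.Main

/-!
# `Δ + Γ_σ ∼ p₁^*D_∞ + p₂^*D_∞` on the square of a hyperelliptic curve
-/

set_option autoImplicit false
set_option backward.isDefEq.respectTransparency false
set_option linter.style.haveILetI false
set_option linter.unusedSectionVars false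

universe u

open CategoryTheory CategoryTheory.Limits AlgebraicGeometry
open Groth.Agent.IntLib (mk mk_eq_mk mk_congr mk_tensor mk_tensorPow pullCls pullCls_mk pairing dif)

noncomputable section

namespace Groth.Agent.HypSq

variable {k : Type u} [Field k] [IsAlgClosed k] {C : Scheme.{u}} [C.Over (Spec (CommRingCat.of k))]
  [IsProper (C ↘ Spec (CommRingCat.of k))] [Smooth (C ↘ Spec (CommRingCat.of k))] [ConnectedSpace ↥C]

variable (k C) in
theorem isIntegral_sq : IsIntegral (Sq k C) := by
  haveI : Subsingleton ↥(Spec (CommRingCat.of k)) := inferInstanceAs (Subsingleton (PrimeSpectrum k))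
  haveI : JacobsonSpace ↥C := LocallyOfFiniteType.jacobsonSpace (C ↘ Spec (CommRingCat.of k))
  obtain ⟨x, -, hx⟩ := nonempty_inter_closedPoints (Z := (Set.univ : Set ↥C)) Set.univ_nonempty
    isOpen_univ.isLocallyClosed
  have hs := pointOfClosedPoint_comp (C ↘ Spec (CommRingCat.of k)) x hx
  haveI : GeometricallyIntegral (C ↘ Spec (CommRingCat.of k)) :=
    SteinConn.geometricallyIntegral_of_section (C ↘ Spec (CommRingCat.of k)) _ hs
  haveI : LocallyOfFiniteType (Over.mk (C ↘ Spec (CommRingCat.of k))).hom :=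
    inferInstanceAs (LocallyOfFiniteType (C ↘ Spec (CommRingCat.of k)))
  haveI : GeometricallyIntegral (Over.mk (C ↘ Spec (CommRingCat.of k))).hom :=
    inferInstanceAs (GeometricallyIntegral (C ↘ Spec (CommRingCat.of k)))
  exact CurveRigid.isIntegral_prod (V := Over.mk (C ↘ Spec (CommRingCat.of k)))
    (W := Over.mk (C ↘ Spec (CommRingCat.of k)))

/-- The class of a module inverse to an invertible one. -/
theorem invertible_of_inverse {X : Scheme.{u}} {L M : X.Modules} (hL : PicF.IsInvertible L)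
    (h : ClSub.IsInverseOf L M) : PicF.IsInvertible M ∧ mk L * mk M = 1 := by
  obtain ⟨e⟩ := h
  have h1 : mk L * mk M = 1 := by rw [← mk_tensor]; exact mk_congr e
  obtain ⟨L', hL', ⟨e'⟩⟩ := AmpleEmb.exists_isInverseOf hL
  have h2 : mk L * mk L' = 1 := by rw [← mk_tensor]; exact mk_congr e'
  have h3 : mk L' = mk M := by
    rw [← mul_one (mk L'), ← h1, ← mul_assoc, mul_comm (mk L') (mk L), h2, one_mul]
  obtain ⟨i⟩ := mk_eq_mk.1 h3
  exact ⟨ParaFLib.isInvertible_of_iso i hL', h1⟩

theorem comp_map_eq_zero {X Y Z W : Scheme.{u}} {a : X ⟶ Y} {b : Y ⟶ Z} {c : X ⟶ W} {d : W ⟶ Z}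
    (h : a ≫ b = c ≫ d) {M M' : Z.Modules} (φ : M ⟶ M') (hd : (Scheme.Modules.pullback d).map φ = 0) :
    (Scheme.Modules.pullback a).map ((Scheme.Modules.pullback b).map φ) = 0 := by
  let e : Scheme.Modules.pullback b ⋙ Scheme.Modules.pullback a ≅
      Scheme.Modules.pullback d ⋙ Scheme.Modules.pullback c :=
    Scheme.Modules.pullbackComp a b ≪≫ Scheme.Modules.pullbackCongr h ≪≫ (Scheme.Modules.pullbackComp c d).symm
  have h1 := e.hom.naturality φ
  rw [Functor.comp_map, Functor.comp_map, hd, Functor.map_zero, comp_zero] at h1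
  exact (cancel_mono (e.hom.app M')).1 (h1.trans zero_comp.symm)

theorem euler_restrict {τ : C ⟶ C} (hτp : τ ≫ (C ↘ Spec (CommRingCat.of k)) = (C ↘ Spec (CommRingCat.of k)))
    (hdim : topologicalKrullDim ↥C = 1) {g : ℕ} (hgen : Curv2.genus k C = g)
    {N : (Sq k C).Modules} (hN : PicF.IsInvertible N) (hNinv : ClSub.IsInverseOf N (ClSub.idealMod (gr hτp).ker))
    {P M : (Sq k C).Modules} (hP : PicF.IsInvertible P) (hM : PicF.IsInvertible M)
    (h : mk M = mk P * mk (ClSub.idealMod (gr hτp).ker)) :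
    Curv2.euler k (Sq k C) P = Curv2.euler k (Sq k C) M +
      (Curv2.deg k C ((Scheme.Modules.pullback (gr hτp)).obj P) 1 + 1 - (g : ℤ)) := by
  haveI := isClosedImmersion_gr hτp
  obtain ⟨-, h1⟩ := invertible_of_inverse hN hNinv
  rw [← euler_eq hdim hgen]
  exact (restrict_numerics k (gr_over hτp) hNinv hM hP
    (by rw [h, mul_assoc, mul_comm (mk (ClSub.idealMod _)), h1, mul_one])).1

theorem pairing_dif {M A : (Sq k C).Modules} (hA : PicF.IsInvertible A) :
    pairing k M (dif hA) = Curv2.euler k (Sq k C) M - Curv2.euler k (Sq k C) (CohB1.tensorMod M A) := by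
  rw [dif, map_sub, IntLib.pairing_of, ← map_one (MonoidAlgebra.of ℤ (IntLib.Inv (Sq k C))), IntLib.pairing_of,
    Submonoid.coe_one, mul_one]
  rfl

variable (h2 : (2 : k) ≠ 0) (hdim : topologicalKrullDim ↥C = 1) {g : ℕ} (hg : 2 ≤ g)
  (hgen : Curv2.genus k C = g)
  (κ : C ⟶ CohB1.ProjSpace 1 k) (hκ : κ ≫ CohB1.ProjSpace.toSpec 1 k = (C ↘ Spec (CommRingCat.of k)))
  [IsFinite κ] [Flat κ] (hκ2 : ∀ y : ↥(CohB1.ProjSpace 1 k), κ.finrank y = 2)

include hdim hg hgen hκ hκ2

/-- `F₁` has a nonzero section vanishing on every graph over the line. -/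
theorem exists_section_F1 :
    ∃ ψ : Coh.structureModule (Sq k C) ⟶
        box (k := k) (CohB1.tensorPow (pen κ) 1) (CohB1.tensorPow (pen κ) 1), ψ ≠ 0 ∧
      ∀ {τ : C ⟶ C} (_ : τ ≫ κ = κ)
        (hτp : τ ≫ (C ↘ Spec (CommRingCat.of k)) = (C ↘ Spec (CommRingCat.of k))),
        (Scheme.Modules.pullback (gr hτp)).map ψ = 0 := by
  obtain ⟨φ, hφ, hφ0⟩ := exists_quad_section k
  let f : Sq k C ⟶ Quad k := pullback.map (C ↘ Spec (CommRingCat.of k)) (C ↘ Spec (CommRingCat.of k))
    (lineStr k) (lineStr k) κ κ (𝟙 _) ((Category.comp_id _).trans hκ.symm) ((Category.comp_id _).trans hκ.symm)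
  haveI : Surjective κ := κ.one_le_finrank_iff_surjective.1 (fun y => by simp [hκ2 y])
  haveI : Flat f := MorphismProperty.pullback_map (P := @Flat) ‹Flat κ› ‹Flat κ› hκ.symm hκ.symm
  haveI : Surjective f := MorphismProperty.pullback_map (P := @Surjective) ‹Surjective κ› ‹Surjective κ› hκ.symm hκ.symm
  have hc : mk ((Scheme.Modules.pullback f).obj (quadOne k)) =
      mk (box (k := k) (CohB1.tensorPow (pen κ) 1) (CohB1.tensorPow (pen κ) 1)) := by
    rw [← pullCls_mk, mk_tensor, map_mul, pullCls_comp, pullCls_comp, pullCls_congr (pullback.lift_fst _ _ _),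
      pullCls_congr (pullback.lift_snd _ _ _), mk_box, mk_tensorPow, pow_one, pullCls_comp, pullCls_comp]
  obtain ⟨e⟩ := mk_eq_mk.1 hc
  refine ⟨(AmpleLib.pullO f).inv ≫ (Scheme.Modules.pullback f).map φ ≫ e.hom, fun h0 => hφ ?_, fun hτ hτp => ?_⟩
  · haveI := PullbackMod.faithful_pullback f
    refine (Scheme.Modules.pullback f).map_injective ?_
    rw [Functor.map_zero]
    exact (cancel_mono e.hom).1 (((cancel_epi (AmpleLib.pullO f).inv).1 (h0.trans comp_zero.symm)).trans zero_comp.symm)
  · have h := comp_map_eq_zero (a := gr hτp) (b := f) (c := κ) (d := pullback.diagonal (lineStr k)) (by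
      apply pullback.hom_ext
      · rw [Category.assoc, Category.assoc, pullback.lift_fst, pullback.diagonal_fst, ← Category.assoc, gr_p₁,
          Category.id_comp, Category.comp_id]
      · rw [Category.assoc, Category.assoc, pullback.lift_snd, pullback.diagonal_snd, ← Category.assoc, gr_p₂,
          hτ, Category.comp_id]) φ hφ0
    rw [Functor.map_comp, Functor.map_comp, h, zero_comp, comp_zero]

include h2 in
/-- The classes of the diagonal and of the graph add up to `F₁`. -/
theorem diag_add_graph {σ : C ⟶ C} (hσ : σ ≫ κ = κ) (hσ1 : σ ≠ 𝟙 C)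
    (hσp : σ ≫ (C ↘ Spec (CommRingCat.of k)) = (C ↘ Spec (CommRingCat.of k)))
    {N : (Sq k C).Modules} (hN : PicF.IsInvertible N) (hNinv : ClSub.IsInverseOf N (ClSub.idealMod (gr hσp).ker))
    {ND : (Sq k C).Modules} (hND : PicF.IsInvertible ND)
    (hNDinv : ClSub.IsInverseOf ND
      (ClSub.idealMod (gr (k := k) (τ := 𝟙 C) (Category.id_comp _)).ker)) :
    mk ND * mk N = mk (box (k := k) (CohB1.tensorPow (pen κ) 1) (CohB1.tensorPow (pen κ) 1)) := by
  haveI := CurveLib.isIntegral_of_smooth (X := C) k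
  haveI := EulerIneqLib.isNoetherian_proper (X := C) k
  haveI := EulerIneqLib.isNoetherian_proper (X := Sq k C) k
  haveI := isIntegral_sq k C
  have hip : (𝟙 C : C ⟶ C) ≫ (C ↘ Spec (CommRingCat.of k)) = C ↘ Spec (CommRingCat.of k) := Category.id_comp _
  have hiκ : (𝟙 C : C ⟶ C) ≫ κ = κ := Category.id_comp _
  haveI : LocallyOfFiniteType (σ ≫ (C ↘ Spec (CommRingCat.of k))) := by rw [hσp]; infer_instance
  haveI := isClosedImmersion_gr hσp
  haveI := isClosedImmersion_gr hip
  set F := box (k := k) (CohB1.tensorPow (pen κ) 1) (CohB1.tensorPow (pen κ) 1) with hFdef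
  set I := ClSub.idealMod (gr hip).ker with hIdef
  set J := ClSub.idealMod (gr hσp).ker with hJdef
  obtain ⟨hL, hdL, -⟩ := pen_pow hdim hg hgen κ hκ hκ2 1
  have hF : PicF.IsInvertible F := isInvertible_box hL hL
  obtain ⟨hI, hdi⟩ := invertible_of_inverse hND hNDinv
  obtain ⟨hJ, hnj⟩ := invertible_of_inverse hN hNinv
  -- the section
  obtain ⟨ψ, hψ, hψ0⟩ := exists_section_F1 hdim hg hgen κ hκ hκ2
  obtain ⟨u, hu⟩ := exists_lift_incl (gr hip).ker hF ψ ((comp_proj_eq_zero_iff ψ).2 (hψ0 hiκ hip))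
  set T := CohB1.tensorMod I F with hTdef
  have hT : PicF.IsInvertible T := AmpleLib.isInvertible_tensor hI hF
  have hu0 : (Scheme.Modules.pullback (gr hσp)).map u = 0 := by
    obtain ⟨w, hw⟩ : ∃ w, gr hσp w ∉ (gr hip).ker.support := by
      by_contra hall
      push Not at hall
      refine hσ1 (ext_of_apply_eq (C ↘ Spec (CommRingCat.of k)) Set.univ isOpen_univ.isLocallyClosed dense_univ
        (fun w _ _ => ?_) (hσp.trans hip.symm))
      have h1 := hall w
      rw [← SetLike.mem_coe, Scheme.Hom.support_ker, (gr hip).isClosedEmbedding.isClosed_range.closure_eq] at h1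
      obtain ⟨v, hv⟩ := h1
      have hfst := congrArg (p₁ k C) hv
      have hsnd := congrArg (p₂ k C) hv
      rw [← Scheme.Hom.comp_apply, ← Scheme.Hom.comp_apply, gr_p₁, gr_p₁] at hfst
      rw [← Scheme.Hom.comp_apply, ← Scheme.Hom.comp_apply, gr_p₂, gr_p₂] at hsnd
      exact hsnd.symm.trans hfst
    have hne : (Scheme.Modules.pullback (gr hσp)).map (incl (gr hip).ker F) ≠ 0 :=
      pullback_incl_ne_zero _ hF (gr hσp) w hw
    haveI := CurveLib.mono_of_ne_zero (AmpleLib.isInvertible_pullback _ hT) (AmpleLib.isInvertible_pullback _ hF) hne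
    have hz := hψ0 hσ hσp
    rw [← hu, Functor.map_comp] at hz
    exact zero_of_comp_mono _ hz
  obtain ⟨v, hv⟩ := exists_lift_incl (gr hσp).ker hT u ((comp_proj_eq_zero_iff u).2 hu0)
  set M := CohB1.tensorMod J T with hMdef
  have hM : PicF.IsInvertible M := AmpleLib.isInvertible_tensor hJ hT
  have hv0 : v ≠ 0 := fun h => hψ (by rw [← hu, ← hv, h, zero_comp, zero_comp])
  -- classes
  let i := mk I
  let j := mk J
  let f := mk F
  have hMc : mk M = f * i * j := by
    show mk (CohB1.tensorMod J (CohB1.tensorMod I F)) = _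
    rw [mk_tensor, mk_tensor, mul_comm, mul_comm (mk I)]
  -- degrees on the two graphs
  have dF : ∀ {τ : C ⟶ C} (_ : τ ≫ κ = κ)
      (hτp : τ ≫ (C ↘ Spec (CommRingCat.of k)) = (C ↘ Spec (CommRingCat.of k))),
      Curv2.deg k C ((Scheme.Modules.pullback (gr hτp)).obj F) 1 = 4 := by
    intro τ hτ hτp
    rw [deg_mul hdim hL hL (P := (Scheme.Modules.pullback (gr hτp)).obj F)
      (by rw [← pullCls_mk, hFdef, pullCls_gr_box, mk_tensorPow, map_pow, pull_pen κ hτ]), hdL]
    norm_num
  have dinv : ∀ {τ : C ⟶ C} (hτp : τ ≫ (C ↘ Spec (CommRingCat.of k)) = (C ↘ Spec (CommRingCat.of k)))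
      {A B : (Sq k C).Modules}, PicF.IsInvertible A → PicF.IsInvertible B → mk A * mk B = 1 →
      Curv2.deg k C ((Scheme.Modules.pullback (gr hτp)).obj B) 1 =
        -Curv2.deg k C ((Scheme.Modules.pullback (gr hτp)).obj A) 1 := by
    intro τ hτp A B hA hB hAB
    have h := deg_mul (k := k) hdim (AmpleLib.isInvertible_pullback (gr hτp) hA)
      (AmpleLib.isInvertible_pullback (gr hτp) hB) (P := Coh.structureModule C)
      (by rw [← pullCls_mk, ← pullCls_mk, ← map_mul, hAB, map_one]; rfl)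
    rw [CurveLib.deg_structureModule] at h
    omega
  have dmul : ∀ {τ : C ⟶ C} (hτp : τ ≫ (C ↘ Spec (CommRingCat.of k)) = (C ↘ Spec (CommRingCat.of k)))
      {A B P : (Sq k C).Modules}, PicF.IsInvertible A → PicF.IsInvertible B → mk P = mk A * mk B →
      Curv2.deg k C ((Scheme.Modules.pullback (gr hτp)).obj P) 1 =
        Curv2.deg k C ((Scheme.Modules.pullback (gr hτp)).obj A) 1 +
          Curv2.deg k C ((Scheme.Modules.pullback (gr hτp)).obj B) 1 := by
    intro τ hτp A B P hA hB hP
    exact deg_mul (k := k) hdim (AmpleLib.isInvertible_pullback (gr hτp) hA)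
      (AmpleLib.isInvertible_pullback (gr hτp) hB) (by rw [← pullCls_mk, hP, map_mul, pullCls_mk, pullCls_mk])
  set D := Curv2.deg k C ((Scheme.Modules.pullback (gr hσp)).obj ND) 1 with hDdef
  have dJ : Curv2.deg k C ((Scheme.Modules.pullback (gr hσp)).obj J) 1 = 2 * ((g : ℤ) - 1) := by
    rw [dinv hσp hN hJ hnj, (gr_N hdim hg hgen κ hκ hκ2 hσ hσp hN hNinv).2.2]; ring
  have dI : Curv2.deg k C ((Scheme.Modules.pullback (gr hσp)).obj I) 1 = -D := dinv hσp hND hI hdi
  have dO : ∀ {τ : C ⟶ C} (hτp : τ ≫ (C ↘ Spec (CommRingCat.of k)) = (C ↘ Spec (CommRingCat.of k))),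
      Curv2.deg k C ((Scheme.Modules.pullback (gr hτp)).obj (Coh.structureModule (Sq k C))) 1 = 0 :=
    fun hτp => (CurveLib.deg_iso (k := k) (AmpleLib.pullO (gr hτp)) 1).trans CurveLib.deg_structureModule
  -- Euler characteristics
  have hO := ParaFLib.isInvertible_structureModule (X := Sq k C)
  let IJ := CohB1.tensorMod I J
  have hIJ : PicF.IsInvertible IJ := AmpleLib.isInvertible_tensor hI hJ
  let MJ := CohB1.tensorMod M J
  have hMJ : PicF.IsInvertible MJ := AmpleLib.isInvertible_tensor hM hJ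
  have eO : Curv2.euler k (Sq k C) (Coh.structureModule (Sq k C)) = ((g : ℤ) - 1) ^ 2 := by
    rw [euler_congr (M' := box (k := k) (Coh.structureModule C) (Coh.structureModule C))
      (by rw [mk_box, show mk (Coh.structureModule C) = 1 from rfl, map_one, map_one, mul_one]; rfl),
      euler_box hdim ParaFLib.isInvertible_structureModule ParaFLib.isInvertible_structureModule,
      euler_eq hdim hgen, CurveLib.deg_structureModule]
    ring
  have eF : Curv2.euler k (Sq k C) F = (2 - ((g : ℤ) - 1)) ^ 2 := by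
    rw [euler_box hdim hL hL, euler_eq hdim hgen, hdL]; ring
  have r1 := euler_restrict hip hdim hgen hND hNDinv hO hI (one_mul _).symm
  have r2 := euler_restrict hσp hdim hgen hN hNinv hI hIJ (mk_tensor _ _)
  have r3 := euler_restrict hσp hdim hgen hN hNinv hO hJ (one_mul _).symm
  have r4 := euler_restrict hip hdim hgen hND hNDinv hF hT (show mk T = mk F * mk I from (mk_tensor I F).trans (mul_comm _ _))
  have r5 := euler_restrict hσp hdim hgen hN hNinv hT hM (show mk M = mk T * mk J from (mk_tensor J T).trans (mul_comm _ _))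
  have r6 := euler_restrict hσp hdim hgen hN hNinv hM hMJ (mk_tensor _ _)
  rw [dO hip] at r1
  rw [dI] at r2
  rw [dO hσp] at r3
  rw [dF hiκ hip] at r4
  rw [dmul hσp hI hF (mk_tensor I F), dI, dF hσ hσp] at r5
  rw [dmul hσp hJ hT (mk_tensor J T), dJ, dmul hσp hI hF (mk_tensor I F), dI, dF hσ hσp] at r6
  -- the cokernel
  have hOc := CurveLib.isCoh_of_isInvertible hO
  have hMcoh := CurveLib.isCoh_of_isInvertible hM
  haveI := CurveLib.mono_of_ne_zero hO hM hv0
  have hQ : Coh.IsCoh (cokernel v) := (QCohLib.isCoh_kernel_cokernel v hOc hMcoh).2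
  have hpair : ∀ z, pairing k (cokernel v) z =
      pairing k M z - pairing k (Coh.structureModule (Sq k C)) z := fun z =>
    eq_sub_of_add_eq' (IntLib.pairing_coker k v hOc hMcoh z).symm
  -- an ample class
  have hamp : CohB1.IsAmple F := by
    have h1 : CohB1.IsAmple (pen κ) := AmpleLib.isAmple_pullback κ (AmpleEmb.isAmple_twistOne 1 k)
    have h2 := (AmpleLib.isAmple_pow_iff h1.1 (show 0 < 1 by norm_num)).2 h1
    exact AmpleEmb.isAmple_ext _ _ h2 h2
  obtain ⟨H', hH', ⟨eH⟩⟩ := AmpleEmb.exists_isInverseOf hF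
  have hfh : f * mk H' = 1 := by rw [← mk_tensor]; exact mk_congr eH
  have hpH : pairing k (cokernel v) (dif hH') = 0 := by
    obtain ⟨L', hL', ⟨eL⟩⟩ := AmpleEmb.exists_isInverseOf hL
    have hll : mk (CohB1.tensorPow (pen κ) 1) * mk L' = 1 := by rw [← mk_tensor]; exact mk_congr eL
    have hdL' : Curv2.deg k C L' 1 = -2 := by
      have h := deg_mul (k := k) hdim hL hL' (P := Coh.structureModule C) hll.symm
      rw [CurveLib.deg_structureModule, hdL] at h
      omega
    have hHc : mk H' = mk (box (k := k) L' L') := by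
      have h1 : f * mk (box (k := k) L' L') = 1 := by
        show mk F * _ = 1
        rw [hFdef, mk_box, mk_box, mul_mul_mul_comm, ← map_mul, ← map_mul, hll, map_one, map_one, mul_one]
      rw [← mul_one (mk H'), ← h1, ← mul_assoc, mul_comm (mk H') f, hfh, one_mul]
    have eH' : Curv2.euler k (Sq k C) H' = (-2 - ((g : ℤ) - 1)) ^ 2 := by
      rw [euler_congr hHc, euler_box hdim hL' hL', euler_eq hdim hgen, hdL']; ring
    have e1 : Curv2.euler k (Sq k C) (CohB1.tensorMod M H') = Curv2.euler k (Sq k C) IJ := by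
      refine euler_congr ?_
      rw [mk_tensor, hMc, mk_tensor, mul_assoc f, mul_comm f, mul_assoc, hfh, mul_one]
    rw [hpair, pairing_dif, pairing_dif, e1, eO,
      euler_congr (M := CohB1.tensorMod (Coh.structureModule _) H') (M' := H') (mk_congr (AmpleLib.unitL H')), eH']
    linear_combination r2 + r1 - r4 - r5 + eF - eO
  have hdQ : topologicalKrullDim (CohB1.support (cokernel v)) < ((1 : ℕ) : WithBot ℕ∞) := by
    have hlt : topologicalKrullDim (CohB1.support (cokernel v)) < ((1 + 1 : ℕ) : WithBot ℕ∞) :=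
      HilbLib.dim_lt_of_notMem (DevLib.isClosed_support hQ)
        ((genericPoint_closure (α := ↥(Sq k C))).symm ▸ Set.subset_univ _)
        (CurveLib.genericPoint_notMem_support hO hM hv0)
        (lt_of_le_of_lt (Topology.IsInducing.subtypeVal.topologicalKrullDim_le.trans (dim_sq_le hdim))
          (by exact_mod_cast Nat.lt_succ_self 2))
    have hp := IntLib.isPos_prod k 1 (fun _ => F) (fun _ => H') (fun _ => hamp) (fun _ => hH') (fun _ => ⟨eH⟩) _
      hQ hlt
    rw [Fin.prod_univ_one, hpH] at hp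
    by_contra hcon
    exact lt_irrefl _ (hp.2 ((HilbLib.not_dim_lt_iff (DevLib.isClosed_support hQ) 1).1 hcon))
  have hD : D = 2 * (g : ℤ) + 2 := by
    have h := IntLib.kill_succ k (IntLib.kill_zero k 1) hJ (cokernel v) hQ hdQ
    rw [mul_one, hpair, pairing_dif, pairing_dif, euler_congr (M := CohB1.tensorMod (Coh.structureModule _) J)
      (M' := J) (mk_congr (AmpleLib.unitL J))] at h
    linarith
  have hχ : Curv2.euler k (Sq k C) (cokernel v) = 0 := by
    have h := CurveLib.euler_shortExact (K := k) (DevLib.cokerSeq_shortExact v) hOc hMcoh hQ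
    change Curv2.euler k (Sq k C) M = Curv2.euler k (Sq k C) (Coh.structureModule _) +
      Curv2.euler k (Sq k C) (cokernel v) at h
    linarith
  have hd0 : topologicalKrullDim (CohB1.support (cokernel v)) ≤ (0 : WithBot ℕ∞) :=
    IntLib.dim_le_of_lt (q := 0) hdQ
  rw [CurveLib.euler_of_dim_le_zero (k := k) (DevLib.isClosed_support hQ) subset_rfl hd0] at hχ
  haveI := EulerIneqLib.finite_HH (k := k) hQ 0
  haveI : Subsingleton (Coh.HH (Sq k C) (cokernel v) 0) :=
    Module.finrank_zero_iff.1 (by exact_mod_cast hχ)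
  have hemp : CohB1.support (cokernel v) = ∅ := Set.eq_empty_iff_forall_notMem.2 fun p hp =>
    hp (CurveLib.subsingleton_stalk_of_H0 (DevLib.isClosed_support hQ) hd0 (cokernel v) subset_rfl p)
  haveI : Epi v := Preadditive.epi_of_isZero_cokernel v (DevLib.isZero_of_support_empty hemp)
  haveI : IsIso v := isIso_of_mono_of_epi v
  have h1 : f * i * j = 1 := hMc.symm.trans (mk_congr (asIso v).symm)
  calc mk ND * mk N = mk ND * mk N * (f * i * j) := by rw [h1, mul_one]
    _ = f * ((mk ND * i) * (mk N * j)) := by ac_rfl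
    _ = f := by rw [hdi, hnj, mul_one, mul_one]

end Groth.Agent.HypSq
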