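import Groth.Agent.GrpOmega.Basic
import Groth.Agent.HypSqLib.Box
import Groth.Agent.HypSqLib.Restrict

/-!
# Graphs on the square of a curve
-/

set_option autoImplicit false
set_option backward.isDefEq.respectTransparency false
set_option linter.style.haveILetI false
set_option linter.unusedSectionVars false

universe u

open CategoryTheory CategoryTheory.Limits AlgebraicGeometry
open Groth.Agent.IntLib (mk mk_eq_mk mk_congr mk_tensor mk_tensorPow pullCls pullCls_mk)

noncomputable section

namespace Groth.Agent.HypSq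

variable {k : Type u} [Field k] [IsAlgClosed k] {C : Scheme.{u}} [C.Over (Spec (CommRingCat.of k))]
  [IsProper (C ↘ Spec (CommRingCat.of k))] [Smooth (C ↘ Spec (CommRingCat.of k))] [ConnectedSpace ↥C]
  {τ : C ⟶ C} (hτp : τ ≫ (C ↘ Spec (CommRingCat.of k)) = (C ↘ Spec (CommRingCat.of k)))

/-- The graph of an endomorphism of the curve. -/
abbrev gr : C ⟶ Sq k C :=
  pullback.lift (𝟙 C) τ ((Category.id_comp (C ↘ Spec (CommRingCat.of k))).trans hτp.symm)

theorem gr_p₁ : gr hτp ≫ p₁ k C = 𝟙 C := pullback.lift_fst _ _ _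

theorem gr_p₂ : gr hτp ≫ p₂ k C = τ := pullback.lift_snd _ _ _

theorem gr_over : gr hτp ≫ (Sq k C ↘ Spec (CommRingCat.of k)) = C ↘ Spec (CommRingCat.of k) := by
  show gr hτp ≫ p₁ k C ≫ (C ↘ Spec (CommRingCat.of k)) = _
  rw [← Category.assoc, gr_p₁, Category.id_comp]

theorem isClosedImmersion_gr : IsClosedImmersion (gr hτp) := by
  haveI : IsClosedImmersion (gr hτp ≫ p₁ k C) := by rw [gr_p₁]; infer_instance
  exact IsClosedImmersion.of_comp (gr hτp) (p₁ k C)

theorem pullCls_gr_box (A B : C.Modules) :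
    pullCls (gr hτp) (mk (box (k := k) A B)) = mk A * pullCls τ (mk B) := by
  rw [mk_box, map_mul, pullCls_mk, pullCls_comp, pullCls_congr (gr_p₁ hτp), pullCls_mk, pullCls_comp,
    pullCls_congr (gr_p₂ hτp), ← pullCls_mk, ← pullCls_mk, pullCls_id]

/-- The conormal sheaf of a graph is the inverse image of the differentials. -/
theorem pullCls_gr_ideal :
    pullCls (gr hτp) (mk (ClSub.idealMod (gr hτp).ker)) = pullCls τ (mk (CurveFF.om k C)) := by
  haveI := isClosedImmersion_gr hτp
  obtain ⟨κ⟩ := GrpOmega.conormal_section_iso (f := p₁ k C) (gr hτp) (gr_p₁ hτp)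
  haveI := OmegaAffLib.isQCoh_omega (C ↘ Spec (CommRingCat.of k))
  obtain ⟨b⟩ := GrpOmega.omega_baseChange
    (IsPullback.of_hasPullback (C ↘ Spec (CommRingCat.of k)) (C ↘ Spec (CommRingCat.of k))).flip
  rw [pullCls_mk]
  refine (mk_congr (κ ≪≫ (Scheme.Modules.pullback (gr hτp)).mapIso b.symm)).trans ?_
  rw [← pullCls_mk, pullCls_comp, pullCls_congr (gr_p₂ hτp), ← pullCls_mk]

variable {N : (Sq k C).Modules} (hNinv : ClSub.IsInverseOf N (ClSub.idealMod (gr hτp).ker))

include hNinv in
theorem pullCls_gr_inverse : pullCls (gr hτp) (mk N) * pullCls τ (mk (CurveFF.om k C)) = 1 := by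
  obtain ⟨e⟩ := hNinv
  rw [← pullCls_gr_ideal hτp, ← map_mul, ← mk_tensor, mk_congr e, IntLib.mk_structureModule, map_one]

theorem deg_mul (hdim : topologicalKrullDim ↥C = 1) {A B P : C.Modules} (hA : PicF.IsInvertible A)
    (hB : PicF.IsInvertible B) (h : mk P = mk A * mk B) :
    Curv2.deg k C P 1 = Curv2.deg k C A 1 + Curv2.deg k C B 1 := by
  haveI := CurveLib.isIntegral_of_smooth (X := C) k
  rw [← mk_tensor] at h
  rw [deg_congr h, CurveLib.deg_tensor_add (k := k) hdim.le hA hB]

end Groth.Agent.HypSq
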