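import Groth.Agent.S18892
import Groth.Agent.HypSqLib.Main
import Groth.Agent.S10829

/-!
# The involution and points of a hyperelliptic curve
-/

set_option autoImplicit false
set_option backward.isDefEq.respectTransparency false
set_option linter.style.haveILetI false
set_option linter.unusedSectionVars false

universe u

open CategoryTheory CategoryTheory.Limits AlgebraicGeometry
open Groth.Agent.IntLib (mk mk_eq_mk mk_congr mk_tensor mk_tensorPow pullCls pullCls_mk)

noncomputable section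

namespace Groth.Agent.HypSq

variable {k : Type u} [Field k] [IsAlgClosed k] {C : Scheme.{u}} [C.Over (Spec (CommRingCat.of k))]
  [IsProper (C ↘ Spec (CommRingCat.of k))] [Smooth (C ↘ Spec (CommRingCat.of k))] [ConnectedSpace ↥C]

/-- The deck transformation of a double cover of the line is an involution. -/
theorem isIso_invol (h2 : (2 : k) ≠ 0) (hdim : topologicalKrullDim ↥C = 1) {g : ℕ} (hg : 2 ≤ g)
    (hgen : Curv2.genus k C = g) (κ : C ⟶ CohB1.ProjSpace 1 k)
    (hκ : κ ≫ CohB1.ProjSpace.toSpec 1 k = (C ↘ Spec (CommRingCat.of k)))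
    [IsFinite κ] [Flat κ] (hκ2 : ∀ y : ↥(CohB1.ProjSpace 1 k), κ.finrank y = 2)
    {σ : C ⟶ C} (hσ : σ ≫ κ = κ) (hσ1 : σ ≠ 𝟙 C)
    (hσp : σ ≫ (C ↘ Spec (CommRingCat.of k)) = (C ↘ Spec (CommRingCat.of k))) :
    σ ≫ σ = 𝟙 C ∧ IsIso σ := by
  haveI := CurveLib.isIntegral_of_smooth (X := C) k
  haveI := VBLib.isRegCurve_of_smooth (X := C) k hdim.le
  haveI : IsIntegral (CohB1.ProjSpace 1 k) := REqLib.isIntegral_projSpace 1 k
  haveI : LocallyOfFiniteType (CohB1.ProjSpace 1 k ↘ Spec (CommRingCat.of k)) :=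
    inferInstanceAs (LocallyOfFiniteType (CohB1.ProjSpace.toSpec 1 k))
  haveI : IsLocallyNoetherian (CohB1.ProjSpace 1 k) :=
    LocallyOfFiniteType.isLocallyNoetherian (CohB1.ProjSpace 1 k ↘ Spec (CommRingCat.of k))
  have hgenp := CurveFF.generic_to_generic hdim h0_structure κ
  haveI : IsFinite (σ ≫ κ) := hσ.symm ▸ ‹IsFinite κ›
  haveI : IsFinite σ := IsFinite.of_comp σ κ
  have hση : σ (genericPoint C) = genericPoint C := by
    refine CurveFF.eq_generic_of_not_closed k hdim fun hcl => ?_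
    have h1 := κ.isClosedMap _ hcl
    rw [Set.image_singleton, show κ (σ (genericPoint C)) = (σ ≫ κ) (genericPoint C) from rfl, hσ, hgenp] at h1
    haveI : IsProper (CohB1.ProjSpace 1 k ↘ Spec (CommRingCat.of k)) :=
      inferInstanceAs (IsProper (CohB1.ProjSpace.toSpec 1 k))
    haveI : Smooth (CohB1.ProjSpace 1 k ↘ Spec (CommRingCat.of k)) := ProjSmoothLib.smooth_toSpec 1 k
    have hdP : topologicalKrullDim (CohB1.ProjSpace 1 k) = 1 := by exact_mod_cast Groth.Agent.S10829.result k 1
    haveI := VBLib.isRegCurve_of_smooth (X := CohB1.ProjSpace 1 k) k hdP.le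
    exact CurveFF.ne_generic (X := CohB1.ProjSpace 1 k) hdP h1 rfl
  haveI := CurveFF.GenEtale.surjective_of_generic σ hση
  haveI : IsDominant σ := inferInstance
  have h : σ ≫ σ = 𝟙 C := by
    by_contra hne
    refine hσ1 (ext_of_isDominant_of_isSeparated (C ↘ Spec (CommRingCat.of k)) (by rw [hσp, Category.id_comp]) σ ?_)
    rw [Category.comp_id]
    exact Groth.Agent.S18892.result k h2 (C ↘ Spec (CommRingCat.of k)) hdim (hg.trans hgen.ge) κ κ hκ hκ hκ2 hκ2
      (σ ≫ σ) σ (by rw [Category.assoc, hσ, hσ]) hne hσ hσ1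
  exact ⟨h, ⟨σ, h, h⟩⟩

/-- Automorphisms preserve degrees. -/
theorem deg_pullback_iso (σ : C ⟶ C) [IsIso σ]
    (hσp : σ ≫ (C ↘ Spec (CommRingCat.of k)) = (C ↘ Spec (CommRingCat.of k))) {M : C.Modules}
    (hM : PicF.IsInvertible M) :
    Curv2.deg k C ((Scheme.Modules.pullback σ).obj M) 1 = Curv2.deg k C M 1 := by
  haveI := EulerIneqLib.isNoetherian_proper (X := C) k
  haveI := (CurveLib.isCoh_of_isInvertible hM).1
  haveI := (DevLib.isCoh_structureModule C).1
  show Curv2.euler k C ((Scheme.Modules.pullback σ).obj M) - (1 : ℕ) * _ = _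
  rw [CurveP1Lib.euler_pullback σ hσp M]
  rfl

/-- A rational point has degree one. -/
theorem deg_point (x : Spec (CommRingCat.of k) ⟶ C) (hx : x ≫ (C ↘ Spec (CommRingCat.of k)) = 𝟙 _)
    {A : C.Modules} (hA : PicF.IsInvertible A) (hAinv : ClSub.IsInverseOf A (ClSub.idealMod x.ker)) :
    Curv2.deg k C A 1 = 1 := by
  letI : (Spec (CommRingCat.of k)).Over (Spec (CommRingCat.of k)) := ⟨𝟙 _⟩
  haveI : IsProper (Spec (CommRingCat.of k) ↘ Spec (CommRingCat.of k)) :=
    inferInstanceAs (IsProper (𝟙 (Spec (CommRingCat.of k))))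
  haveI : IsClosedImmersion (x ≫ (C ↘ Spec (CommRingCat.of k))) := by rw [hx]; infer_instance
  haveI : IsClosedImmersion x := IsClosedImmersion.of_comp x (C ↘ Spec (CommRingCat.of k))
  haveI := EulerIneqLib.isNoetherian_proper (X := C) k
  haveI := EulerIneqLib.isNoetherian_proper (X := Spec (CommRingCat.of k)) k
  obtain ⟨he, -⟩ := restrict_numerics k (i := x) hx hAinv (ParaFLib.isInvertible_structureModule (X := C)) hA
    (by rw [IntLib.mk_structureModule, one_mul])
  -- the fibre of `A` at the point is a line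
  have hpt : Curv2.euler k (Spec (CommRingCat.of k)) ((Scheme.Modules.pullback x).obj A) = 1 := by
    haveI : Subsingleton ↥(Spec (CommRingCat.of k)) := inferInstanceAs (Subsingleton (PrimeSpectrum k))
    obtain ⟨U, hU, ⟨e⟩⟩ := AmpleLib.isInvertible_pullback x hA (default : ↥(Spec (CommRingCat.of k)))
    obtain rfl : U = ⊤ := top_le_iff.1 fun y _ => by rwa [Subsingleton.elim y default]
    letI : Scheme.Over (↑(⊤ : (Spec (CommRingCat.of k)).Opens)) (Spec (CommRingCat.of k)) :=
      ⟨(⊤ : (Spec (CommRingCat.of k)).Opens).ι⟩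
    haveI : IsIso (⊤ : (Spec (CommRingCat.of k)).Opens).ι := inferInstanceAs (IsIso (Scheme.topIso _).hom)
    haveI : IsProper ((↑(⊤ : (Spec (CommRingCat.of k)).Opens) : Scheme) ↘ Spec (CommRingCat.of k)) :=
      inferInstanceAs (IsProper (⊤ : (Spec (CommRingCat.of k)).Opens).ι)
    haveI := (CurveLib.isCoh_of_isInvertible (AmpleLib.isInvertible_pullback x hA)).1
    haveI := (DevLib.isCoh_structureModule (Spec (CommRingCat.of k))).1
    have hg := fun (M : (Spec (CommRingCat.of k)).Modules) [Coh.IsQCoh M] =>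
      CurveP1Lib.euler_pullback (k := k) (⊤ : (Spec (CommRingCat.of k)).Opens).ι (Category.comp_id _) M
    rw [← hg, CurveLib.euler_iso (K := k)
      (((Scheme.Modules.restrictFunctorIsoPullback _).app _).symm ≪≫ e ≪≫ (AmpleLib.pullO _).symm), hg,
      CurveLib.euler_eq_sum (K := k) _ 1 fun p hp =>
        CurveLib.subsingleton_HH_of_dim _ (d := 0) ?_ hp]
    · simp [CurveLib.finrank_H0_structure (k := k) (X := Spec (CommRingCat.of k))]
    · exact le_of_eq (((PrimeSpectrum.topologicalKrullDim_eq_ringKrullDim k)).trans (ringKrullDim_eq_zero_of_field k))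
  show Curv2.euler k C A - (1 : ℕ) * _ = 1
  rw [he, hpt]
  simp

end Groth.Agent.HypSq
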