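import Groth.Agent.IntLib.Divisor
import Groth.Agent.CurveLib.TensorExact
import Groth.Agent.DCohLib.ProjClosed
import Groth.Agent.DCohLib.TensorPull
import Groth.Agent.PullbackMod.Hom
import Groth.Agent.CurveP1Lib.Transport
import Groth.Agent.CurveLib.Inv
import Groth.Agent.HypSqLib.Restrict

/-!
# Sections vanishing on a closed subscheme factor through its ideal
-/

set_option autoImplicit false
set_option backward.isDefEq.respectTransparency false
set_option linter.style.haveILetI false
set_option linter.unusedSectionVars false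

universe u

open CategoryTheory CategoryTheory.Limits AlgebraicGeometry
open Groth.Agent.PullbackMod Groth.Agent.DCohLib

noncomputable section

namespace Groth.Agent.HypSq

variable {X Z W : Scheme.{u}}

/-- `O ⊗ - ≅ 𝟭`. -/
def lam (X : Scheme.{u}) : (DCoh.tensorBi (X := X)).obj (Coh.structureModule X) ≅ 𝟭 X.Modules :=
  (ModTensor.tensorSymm X.sheaf (Coh.structureModule X)).symm ≪≫ ModTensor.tensorUnitRight X.sheaf

/-- The map `I ⊗ P ⟶ P`. -/
def incl (D : X.IdealSheafData) (P : X.Modules) : (CurveLib.tensR P).obj (ClSub.idealMod D) ⟶ P :=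
  (CurveLib.tensR P).map (ClSub.idealModι D) ≫ (lam X).hom.app P

/-- The map `P ⟶ (O/I) ⊗ P`. -/
def proj (D : X.IdealSheafData) (P : X.Modules) : P ⟶ (CurveLib.tensR P).obj (ClSub.quotMod D) :=
  (lam X).inv.app P ≫ (CurveLib.tensR P).map (ClSub.toSubscheme D)

variable [IsLocallyNoetherian X] (D : X.IdealSheafData)

theorem exists_lift_incl {P : X.Modules} (hP : PicF.IsInvertible P) {A : X.Modules} (φ : A ⟶ P)
    (h : φ ≫ proj D P = 0) : ∃ u : A ⟶ (CurveLib.tensR P).obj (ClSub.idealMod D), u ≫ incl D P = φ := by
  haveI := Groth.Agent.SerreAff.epi_unitToPush D.subschemeι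
  haveI : Mono (ClSub.idealModι D) := inferInstanceAs (Mono (kernel.ι _))
  let S : ShortComplex X.Modules :=
    ShortComplex.mk (ClSub.idealModι D) (ClSub.toSubscheme D) (kernel.condition _)
  have hS : S.ShortExact := ShortComplex.ShortExact.mk'
    (ShortComplex.exact_of_f_is_kernel _ (kernelIsKernel _)) (inferInstanceAs (Mono (ClSub.idealModι D)))
    (inferInstanceAs (Epi (ClSub.toSubscheme D)))
  have hT := CurveLib.shortExact_tensR hS fun x => CurveLib.freeAt_one_of_isInvertible hP x
  haveI := hT.mono_f
  have h' : (φ ≫ (lam X).inv.app P) ≫ (S.map (CurveLib.tensR P)).g = 0 := by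
    rw [Category.assoc]; exact h
  refine ⟨hT.exact.lift _ h', ?_⟩
  show hT.exact.lift _ h' ≫ (S.map (CurveLib.tensR P)).f ≫ (lam X).hom.app P = φ
  rw [← Category.assoc, hT.exact.lift_f, Category.assoc, Iso.inv_hom_id_app]
  exact Category.comp_id φ

/-- A section dies in `P|_Z` exactly when its inverse image vanishes. -/
theorem comp_proj_eq_zero_iff {i : Z ⟶ X} [IsClosedImmersion i] {P : X.Modules}
    (φ : Coh.structureModule X ⟶ P) :
    φ ≫ proj i.ker P = 0 ↔ (Scheme.Modules.pullback i).map φ = 0 := by
  haveI := Groth.Agent.SerreAff.epi_unitToPush i.ker.subschemeι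
  haveI : Epi (ClSub.toSubscheme i.ker) := inferInstanceAs (Epi (ClSub.toSubscheme i.ker))
  let T := CurveLib.tensR (Coh.structureModule X)
  haveI : Epi (T.map (ClSub.toSubscheme i.ker)) := inferInstance
  have h1 : φ ≫ proj i.ker P = ((lam X).inv.app (Coh.structureModule X) ≫
      T.map (ClSub.toSubscheme i.ker)) ≫ ((DCoh.tensorBi (X := X)).obj (ClSub.quotMod i.ker)).map φ := by
    show φ ≫ (lam X).inv.app P ≫ _ = _
    rw [← Category.assoc, show φ ≫ (lam X).inv.app P = (lam X).inv.app _ ≫
      ((DCoh.tensorBi (X := X)).obj (Coh.structureModule X)).map φ from (lam X).inv.naturality φ,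
      Category.assoc, Category.assoc]
    exact congrArg (_ ≫ ·) (((DCoh.tensorBi (X := X)).map (ClSub.toSubscheme i.ker)).naturality φ)
  haveI : Epi ((lam X).inv.app (Coh.structureModule X) ≫ T.map (ClSub.toSubscheme i.ker)) := inferInstance
  rw [h1, ← comp_zero (f := (lam X).inv.app (Coh.structureModule X) ≫ T.map (ClSub.toSubscheme i.ker)),
    cancel_epi]
  obtain ⟨e⟩ := nonempty_quotMod_iso i
  have hn : ((DCoh.tensorBi (X := X)).obj (ClSub.quotMod i.ker)).map φ =
      (((DCoh.tensorBi (X := X)).map e.hom).app _ ≫ (projIso i (Coh.structureModule Z) _).hom) ≫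
        (Scheme.Modules.pushforward i).map
          (((DCoh.tensorBi (X := Z)).obj (Coh.structureModule Z)).map ((Scheme.Modules.pullback i).map φ)) ≫
        ((projIso i (Coh.structureModule Z) P).inv ≫ ((DCoh.tensorBi (X := X)).map e.inv).app P) := by
    rw [Category.assoc, ← reassoc_of% (projIso_natural_right i (Coh.structureModule Z) φ), Iso.hom_inv_id_assoc,
      ← Category.assoc, ← ((DCoh.tensorBi (X := X)).map e.hom).naturality φ, Category.assoc,
      ← NatTrans.comp_app, ← Functor.map_comp, e.hom_inv_id, CategoryTheory.Functor.map_id]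
    exact (Category.comp_id _).symm
  constructor
  · intro h0
    rw [hn] at h0
    haveI : IsIso (((DCoh.tensorBi (X := X)).map e.hom).app (Coh.structureModule X)) := inferInstance
    haveI : IsIso (((DCoh.tensorBi (X := X)).map e.inv).app P) := inferInstance
    have h2 := ((cancel_epi (((DCoh.tensorBi (X := X)).map e.hom).app (Coh.structureModule X) ≫
      (projIso i (Coh.structureModule Z) (Coh.structureModule X)).hom)).1 (h0.trans comp_zero.symm))
    have h3 := (cancel_mono ((projIso i (Coh.structureModule Z) P).inv ≫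
      ((DCoh.tensorBi (X := X)).map e.inv).app P)).1 (h2.trans zero_comp.symm)
    haveI : (Scheme.Modules.pushforward i).Faithful := by
      haveI : IsIso (Scheme.Modules.pullbackPushforwardAdjunction i).counit := by
        haveI := fun M => isIso_counit_closedImmersion i M
        exact NatIso.isIso_of_isIso_app _
      exact (Scheme.Modules.pullbackPushforwardAdjunction i).fullyFaithfulROfIsIsoCounit.faithful
    have h4 := (Scheme.Modules.pushforward i).map_injective (h3.trans (Functor.map_zero _ _ _).symm)
    have h5 := (lam Z).hom.naturality ((Scheme.Modules.pullback i).map φ)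
    rw [h4, zero_comp] at h5
    exact (cancel_epi ((lam Z).hom.app _)).1 (h5.symm.trans comp_zero.symm)
  · intro h0
    rw [hn, h0, Functor.map_zero, Functor.map_zero, zero_comp, comp_zero]

/-- Away from the subscheme the inclusion `I ⊗ P ⟶ P` is not zero. -/
theorem pullback_incl_ne_zero {P : X.Modules} (hP : PicF.IsInvertible P) (g : W ⟶ X) (w : W)
    (hw : g w ∉ D.support) : (Scheme.Modules.pullback g).map (incl D P) ≠ 0 := by
  haveI := Groth.Agent.SerreAff.epi_unitToPush D.subschemeι
  haveI : Mono (ClSub.idealModι D) := inferInstanceAs (Mono (kernel.ι _))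
  let S : ShortComplex X.Modules :=
    ShortComplex.mk (ClSub.idealModι D) (ClSub.toSubscheme D) (kernel.condition _)
  have hS : S.ShortExact := ShortComplex.ShortExact.mk'
    (ShortComplex.exact_of_f_is_kernel _ (kernelIsKernel _)) (inferInstanceAs (Mono (ClSub.idealModι D)))
    (inferInstanceAs (Epi (ClSub.toSubscheme D)))
  have hT := CurveLib.shortExact_tensR hS fun x => CurveLib.freeAt_one_of_isInvertible hP x
  have hsub : Subsingleton (((CurveLib.tensR P).obj (ClSub.quotMod D)).presheaf.stalk (g w)) := by
    by_contra hc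
    have h1 : g w ∈ CohB1.support (tmod (ClSub.quotMod D) P) := hc
    rw [HilbLib.support_tensor hP] at h1
    exact hw (IntLib.support_quotMod_subset D h1)
  have hsur : Function.Surjective (stalkLin ((S.map (CurveLib.tensR P)).f) (g w)) := fun z =>
    (DevLib.stalk_exact hT (g w) z).1 (hsub.elim _ _)
  have hsur' : Function.Surjective (stalkLin (incl D P) (g w)) := by
    show Function.Surjective (stalkLin ((CurveLib.tensR P).map (ClSub.idealModι D) ≫ (lam X).hom.app P) (g w))
    rw [stalkLin_comp]
    exact ((HilbLib.stalkLin_bijective_of_iso ((lam X).app P) (g w)).surjective).comp hsur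
  intro h0
  letI := (g.stalkMap w).hom.toAlgebra
  have hz : stalkLin ((Scheme.Modules.pullback g).map (incl D P)) w = 0 := by
    rw [h0]; exact (eq_zero_iff_stalk _).mp rfl w
  have h1 := (surjective_stalk_pullback_iff g (incl D P) w).2 (LinearMap.lTensor_surjective _ hsur')
  rw [hz] at h1
  obtain ⟨l⟩ := CurveLib.freeAt_one_of_isInvertible (AmpleLib.isInvertible_pullback g hP) w
  obtain ⟨a, ha⟩ := h1 (l.symm fun _ => 1)
  exact one_ne_zero (α := W.presheaf.stalk w) (congrFun (l.symm.injective
    ((ha.symm.trans (LinearMap.zero_apply a)).trans (map_zero l.symm).symm)) 0)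

end Groth.Agent.HypSq
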