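import Groth.Agent.S6579
import Groth.Agent.AmpleEmb.TwistOne
import Groth.Agent.HypSqLib.SecFactor
import Groth.Agent.HypSqLib.Box

/-!
# A bidegree `(1,1)` section on the square of the line vanishing on the diagonal
-/

set_option autoImplicit false
set_option backward.isDefEq.respectTransparency false
set_option linter.style.haveILetI false
set_option linter.unusedSectionVars false

universe u

open CategoryTheory CategoryTheory.Limits AlgebraicGeometry
open Groth.Agent.IntLib (mk mk_eq_mk mk_congr mk_tensor pullCls pullCls_mk)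

noncomputable section

namespace Groth.Agent.HypSq

variable (k : Type u) [Field k] [IsAlgClosed k]

/-- The structure map of the line. -/
abbrev lineStr : CohB1.ProjSpace 1 k ⟶ Spec (CommRingCat.of k) :=
  CohB1.ProjSpace 1 k ↘ Spec (CommRingCat.of k)

/-- The square of the line. -/
abbrev Quad : Scheme.{u} := pullback (lineStr k) (lineStr k)

/-- `O(1,1)`. -/
abbrev quadOne : (Quad k).Modules :=
  CohB1.tensorMod ((Scheme.Modules.pullback (pullback.fst (lineStr k) (lineStr k))).obj (Twist.twistProjSpace 1 k 1))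
    ((Scheme.Modules.pullback (pullback.snd (lineStr k) (lineStr k))).obj (Twist.twistProjSpace 1 k 1))

theorem secHom_comp {Y : Scheme.{u}} {M M' : Y.Modules} (s : Γ(M, ⊤)) (f : M ⟶ M') :
    DCohLib.secHom M s ≫ f = DCohLib.secHom M' (f.app ⊤ s) := by
  refine DCohLib.hom_unit_ext ?_
  have h1 : (DCohLib.secHom M s).app ⊤ (1 : Γ(Y, ⊤)) = s := AmpleLib.sec_secHom s
  have h2 : (DCohLib.secHom M' (f.app ⊤ s)).app ⊤ (1 : Γ(Y, ⊤)) = f.app ⊤ s := AmpleLib.sec_secHom _
  rw [h2]
  exact congrArg (f.app ⊤) h1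

theorem exists_quad_section :
    ∃ φ : Coh.structureModule (Quad k) ⟶ quadOne k,
      φ ≠ 0 ∧ (Scheme.Modules.pullback (pullback.diagonal (lineStr k))).map φ = 0 := by
  letI := KunnethHHLib.prodOver (A := k) (CohB1.ProjSpace 1 k) (CohB1.ProjSpace 1 k)
  haveI : IsProper (CohB1.ProjSpace 1 k ↘ Spec (CommRingCat.of k)) :=
    inferInstanceAs (IsProper (CohB1.ProjSpace.toSpec 1 k))
  haveI : IsProper (Quad k ↘ Spec (CommRingCat.of k)) :=
    inferInstanceAs (IsProper (pullback.fst (lineStr k) (lineStr k) ≫ lineStr k))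
  haveI := EulerIneqLib.isNoetherian_proper (X := CohB1.ProjSpace 1 k) k
  haveI := EulerIneqLib.isNoetherian_proper (X := Quad k) k
  haveI : IsIntegral (CohB1.ProjSpace 1 k) := REqLib.isIntegral_projSpace 1 k
  have hO : PicF.IsInvertible (Twist.twistProjSpace 1 k 1) := AmpleEmb.isInvertible_twistOne 1 k
  have hd : topologicalKrullDim (CohB1.ProjSpace 1 k) ≤ 1 :=
    le_of_eq (by exact_mod_cast Groth.Agent.S10829.result k 1)
  -- four sections
  have h4 : Module.finrank k (Coh.HH (Quad k) (quadOne k) 0) = 4 := by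
    haveI := (CurveLib.isCoh_of_isInvertible hO).1
    have hf : ∀ p, Module.Finite k (Coh.HH (CohB1.ProjSpace 1 k) (Twist.twistProjSpace 1 k 1) p) := fun p =>
      EulerIneqLib.finite_HH (k := k) (CurveLib.isCoh_of_isInvertible hO) p
    have h2 : Module.finrank k (Coh.HH (CohB1.ProjSpace 1 k) (Twist.twistProjSpace 1 k ((1 : ℕ) : ℤ)) 0) = 2 := by
      obtain ⟨e⟩ := ProjTwist.nonempty_H0 1 k 1
      rw [e.finrank_eq, Groth.Agent.S4466.finrank_forms k 1 1, Nat.choose_one_right]
    have h := finrank_kunneth (k := k) (CohB1.ProjSpace 1 k) (CohB1.ProjSpace 1 k) (Twist.twistProjSpace 1 k 1)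
      (Twist.twistProjSpace 1 k 1) hf hf 0
    replace h2 : Module.finrank k (Coh.HH (CohB1.ProjSpace 1 k) (Twist.twistProjSpace 1 k 1) 0) = 2 := h2
    simpa [h2] using h
  -- at most three on the diagonal
  let δ := pullback.diagonal (lineStr k)
  have hδ : δ ≫ (Quad k ↘ Spec (CommRingCat.of k)) = lineStr k := by
    show δ ≫ pullback.fst (lineStr k) (lineStr k) ≫ lineStr k = lineStr k
    rw [← Category.assoc, pullback.diagonal_fst, Category.id_comp]
  have hP : PicF.IsInvertible (quadOne k) :=
    AmpleLib.isInvertible_tensor (AmpleLib.isInvertible_pullback _ hO) (AmpleLib.isInvertible_pullback _ hO)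
  have hr := AmpleLib.isInvertible_pullback δ hP
  haveI := (CurveLib.isCoh_of_isInvertible hr).1
  have h3 : Module.finrank k (Coh.HH (CohB1.ProjSpace 1 k) ((Scheme.Modules.pullback δ).obj (quadOne k)) 0) ≤ 3 := by
    rcases subsingleton_or_nontrivial (Coh.HH (CohB1.ProjSpace 1 k) ((Scheme.Modules.pullback δ).obj (quadOne k)) 0)
      with hs | hs
    · rw [Module.finrank_zero_of_subsingleton]; omega
    · have h := (CurveLib.h0_le_deg_add_one (k := k) hd CurveLib.finrank_H0_structure hr).1
      have hc : mk ((Scheme.Modules.pullback δ).obj (quadOne k)) =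
          mk (CohB1.tensorMod (Twist.twistProjSpace 1 k 1) (Twist.twistProjSpace 1 k 1)) := by
        rw [← pullCls_mk, mk_tensor, map_mul, pullCls_comp, pullCls_comp, pullCls_congr (pullback.diagonal_fst _),
          pullCls_congr (pullback.diagonal_snd _), ← pullCls_mk, pullCls_id, mk_tensor]
      obtain ⟨e⟩ := mk_eq_mk.1 hc
      rw [CurveLib.deg_iso (k := k) e 1, CurveLib.deg_tensor_add (k := k) hd hO hO,
        Groth.Agent.S6579.deg_twist_one k] at h
      omega
  -- the kernel of the restriction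
  have hq : Module.finrank k (Coh.HH (Quad k) ((CurveLib.tensR (quadOne k)).obj (ClSub.quotMod δ.ker)) 0) ≤ 3 := by
    obtain ⟨e⟩ := nonempty_quotMod_iso δ
    let e' : (CurveLib.tensR (quadOne k)).obj (ClSub.quotMod δ.ker) ≅
        (Scheme.Modules.pushforward δ).obj ((Scheme.Modules.pullback δ).obj (quadOne k)) :=
      AmpleLib.tIso e (Iso.refl _) ≪≫ DCohLib.projIso δ (Coh.structureModule _) (quadOne k) ≪≫
        (Scheme.Modules.pushforward δ).mapIso (AmpleLib.unitL _)
    rw [(CurveLib.hMap_bijective_finrank e' 0).trans (IntLib.finrank_push k δ hδ _ 0)]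
    exact h3
  obtain ⟨c, hc, hc0⟩ : ∃ c : Coh.HH (Quad k) (quadOne k) 0,
      CurveLib.hMap (k := k) (proj δ.ker (quadOne k)) 0 c = 0 ∧ c ≠ 0 := by
    haveI := EulerIneqLib.finite_HH (k := k) (CurveLib.isCoh_of_isInvertible hP) 0
    haveI : Module.Finite k (Coh.HH (Quad k) ((CurveLib.tensR (quadOne k)).obj (ClSub.quotMod δ.ker)) 0) :=
      EulerIneqLib.finite_HH (k := k)
        (CurveLib.isCoh_tmod (IntLib.isCoh_quotMod δ.ker) (CurveLib.isCoh_of_isInvertible hP)) 0
    by_contra h
    push Not at h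
    have hinj : Function.Injective (CurveLib.hMap (k := k) (proj δ.ker (quadOne k)) 0) :=
      (injective_iff_map_eq_zero _).2 fun c hc => h c hc
    have := LinearMap.finrank_le_finrank_of_injective hinj
    rw [h4] at this
    exact absurd (this.trans hq) (by omega)
  refine ⟨DCohLib.secHom _ (CurveLib.secOf _ c), CurveLib.secHom_secOf_ne_zero _ hc0,
    (comp_proj_eq_zero_iff (i := δ) _).1 ?_⟩
  refine (secHom_comp _ _).trans (DCohLib.hom_unit_ext ?_)
  rw [← CurveLib.secOf_hMap (k := k), hc, map_zero]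
  exact AmpleLib.sec_secHom _

end Groth.Agent.HypSq
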